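import Groth.Agent.PerfA.AffModel
import Groth.Agent.PerfC.TildeFLF
import Groth.Agent.LoccohB.KDer
import Groth.Agent.Dcoh.MapDer
import Groth.Agent.Dcoh.LocalD
import Groth.Agent.Ega2.QCohLocal

/-!
# Morphisms in `K(O_X)` and `D(O_X)` on an affine scheme
-/

set_option autoImplicit false
universe w₁ w₂ v₁ v₂ u u₁ u₂

open CategoryTheory CategoryTheory.Limits AlgebraicGeometry
attribute [local instance] HasDerivedCategory.standard

namespace K312.AffK

open Groth.Agent.LoccohB.KDer Groth.Agent.PerfA.AffModel Groth.Agent.PerfA.Restrict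

section Abs

variable {A : Type u₁} [Category.{v₁} A] [Abelian A] [HasDerivedCategory.{w₁} A]
  {B : Type u₂} [Category.{v₂} B] [Abelian B] [HasDerivedCategory.{w₂} B]
  (T : A ⥤ B) [T.Additive] [PreservesFiniteLimits T] [PreservesFiniteColimits T] [T.Full]
  [T.Faithful] [T.mapDerivedCategory.Full] [T.mapDerivedCategory.Faithful]

/-- Chain maps between complexes in the image of `T` with the same image in `D(B)` are homotopic. -/
theorem homotopy_of_map {P N : CochainComplex A ℤ} [P.IsKProjective]
    (f g : (T.mapHomologicalComplex (ComplexShape.up ℤ)).obj P ⟶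
      (T.mapHomologicalComplex (ComplexShape.up ℤ)).obj N)
    (h : DerivedCategory.Q.map f = DerivedCategory.Q.map g) : Nonempty (Homotopy f g) := by
  obtain ⟨f, rfl⟩ := (T.mapHomologicalComplex (ComplexShape.up ℤ)).map_surjective f
  obtain ⟨g, rfl⟩ := (T.mapHomologicalComplex (ComplexShape.up ℤ)).map_surjective g
  have h1 : T.mapDerivedCategory.map (DerivedCategory.Q.map f) =
      T.mapDerivedCategory.map (DerivedCategory.Q.map g) := by
    have e1 := T.mapDerivedCategoryFactors.hom.naturality f
    have e2 := T.mapDerivedCategoryFactors.hom.naturality g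
    dsimp at e1 e2
    rw [← cancel_mono (T.mapDerivedCategoryFactors.hom.app N), e1, e2, h]
  obtain ⟨H⟩ := homotopy_of_Q_map_eq_of_isKProjective (T.mapDerivedCategory.map_injective h1)
  exact ⟨T.mapHomotopy H⟩

/-- Morphisms in `D(B)` between complexes in the image of `T` come from chain maps. -/
theorem exists_map {P N : CochainComplex A ℤ} [P.IsKProjective]
    (θ : DerivedCategory.Q.obj ((T.mapHomologicalComplex (ComplexShape.up ℤ)).obj P) ⟶
      DerivedCategory.Q.obj ((T.mapHomologicalComplex (ComplexShape.up ℤ)).obj N)) :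
    ∃ f, DerivedCategory.Q.map f = θ := by
  obtain ⟨θ', hθ'⟩ := T.mapDerivedCategory.map_surjective
    (T.mapDerivedCategoryFactors.hom.app P ≫ θ ≫ T.mapDerivedCategoryFactors.inv.app N)
  obtain ⟨g, rfl⟩ := liftsFrom_Q P θ'
  refine ⟨(T.mapHomologicalComplex (ComplexShape.up ℤ)).map g, ?_⟩
  have e1 := T.mapDerivedCategoryFactors.hom.naturality g
  dsimp at e1
  rw [← cancel_epi (T.mapDerivedCategoryFactors.hom.app P), ← e1, hθ', Category.assoc,
    Category.assoc, Iso.inv_hom_id_app]
  exact congrArg _ (Category.comp_id θ)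

end Abs

/-- Transport of `K ⟶ D` bijectivity along isomorphisms of complexes. -/
theorem bijective_Qh {B : Type u₂} [Category.{v₂} B] [Abelian B] [HasDerivedCategory.{w₂} B]
    {E F E' F' : CochainComplex B ℤ} (e : E' ≅ E) (f : F' ≅ F)
    (h1 : ∀ a b : E' ⟶ F', DerivedCategory.Q.map a = DerivedCategory.Q.map b → Nonempty (Homotopy a b))
    (h2 : ∀ θ : DerivedCategory.Q.obj E' ⟶ DerivedCategory.Q.obj F', ∃ a, DerivedCategory.Q.map a = θ) :
    Function.Bijective (fun φ : (HomotopyCategory.quotient B (ComplexShape.up ℤ)).obj E ⟶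
        (HomotopyCategory.quotient B (ComplexShape.up ℤ)).obj F =>
      (DerivedCategory.Qh (C := B)).map φ) := by
  have h1' : ∀ a b : E ⟶ F, DerivedCategory.Q.map a = DerivedCategory.Q.map b →
      Nonempty (Homotopy a b) := by
    intro a b hab
    obtain ⟨H⟩ := h1 (e.hom ≫ a ≫ f.inv) (e.hom ≫ b ≫ f.inv) (by simp [hab])
    exact ⟨(Homotopy.ofEq (by simp)).trans (((H.compLeft e.inv).compRight f.hom).trans
      (Homotopy.ofEq (by simp)))⟩
  constructor
  · intro a b hab
    obtain ⟨a, rfl⟩ := (HomotopyCategory.quotient _ _).map_surjective a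
    obtain ⟨b, rfl⟩ := (HomotopyCategory.quotient _ _).map_surjective b
    obtain ⟨H⟩ := h1' a b (by
      rw [Q_map_eq, Q_map_eq]
      exact congrArg (fun t => _ ≫ t ≫ _) hab)
    exact HomotopyCategory.eq_of_homotopy _ _ H
  · intro θ
    obtain ⟨a, ha⟩ := h2 (DerivedCategory.Q.map e.hom ≫
      ((DerivedCategory.quotientCompQhIso B).inv.app E ≫ θ ≫
        (DerivedCategory.quotientCompQhIso B).hom.app F) ≫ DerivedCategory.Q.map f.inv)
    refine ⟨(HomotopyCategory.quotient _ _).map (e.inv ≫ a ≫ f.hom), ?_⟩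
    have h3 : DerivedCategory.Q.map (e.inv ≫ a ≫ f.hom) =
      (DerivedCategory.quotientCompQhIso B).inv.app E ≫ θ ≫
        (DerivedCategory.quotientCompQhIso B).hom.app F := by
      rw [Functor.map_comp, Functor.map_comp, ha]
      simp only [Category.assoc]
      rw [← Functor.map_comp, f.inv_hom_id, CategoryTheory.Functor.map_id, Category.comp_id,
        ← Functor.map_comp_assoc, e.inv_hom_id, CategoryTheory.Functor.map_id, Category.id_comp]
    rw [Q_map_eq] at h3
    rw [cancel_epi, cancel_mono] at h3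
    exact h3

section Aff

variable (X : Scheme.{u}) [IsAffine X]

/-- Restriction along an isomorphism is an equivalence. -/
noncomputable def restrictEquiv {Y Z : Scheme.{u}} (e : Y ≅ Z) : Z.Modules ≌ Y.Modules :=
  CategoryTheory.Equivalence.mk (Scheme.Modules.restrictFunctor e.hom)
    (Scheme.Modules.restrictFunctor e.inv)
    ((Scheme.Modules.restrictFunctorId (X := Z)).symm ≪≫
    Scheme.Modules.restrictFunctorCongr (by simp) ≪≫
    Scheme.Modules.restrictFunctorComp e.inv e.hom)
    ((Scheme.Modules.restrictFunctorComp e.hom e.inv).symm ≪≫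
    Scheme.Modules.restrictFunctorCongr (by simp) ≪≫
    (Scheme.Modules.restrictFunctorId (X := Y)))

instance {Y Z : Scheme.{u}} (e : Y ≅ Z) : (Scheme.Modules.restrictFunctor e.hom).IsEquivalence :=
  (restrictEquiv e).isEquivalence_functor

/-- The functor `M ↦ M~` for an affine scheme. -/
noncomputable abbrev T : ModuleCat.{u} Γ(X, ⊤) ⥤ X.Modules :=
  tilde.functor Γ(X, ⊤) ⋙ Scheme.Modules.restrictFunctor X.isoSpec.hom

instance : PreservesFiniteLimits (tilde.functor Γ(X, ⊤)) :=
  Groth.Agent.PerfB.TildeExact.preservesFiniteLimits_tilde _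

instance : (T X).Full := by
  have : (tilde.functor Γ(X, ⊤)).Full := tilde.fullyFaithfulFunctor.full
  infer_instance

instance : (T X).Faithful := by
  have : (tilde.functor Γ(X, ⊤)).Faithful := tilde.fullyFaithfulFunctor.faithful
  infer_instance

instance : PreservesFiniteLimits (T X) := inferInstance
instance : PreservesFiniteColimits (T X) := inferInstance

/-- `T` on derived categories. -/
noncomputable def mapTIso : modelD X ≅ (T X).mapDerivedCategory :=
  Groth.Agent.Dcoh.MapDer.mapDerComp (tilde.functor Γ(X, ⊤)) (Scheme.Modules.restrictFunctor X.isoSpec.hom)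

instance : (T X).mapDerivedCategory.Full := Functor.Full.of_iso (mapTIso X)

instance : (T X).mapDerivedCategory.Faithful := Functor.Faithful.of_iso (mapTIso X)

/-- Right adjoint of `T`. -/
noncomputable abbrev G : X.Modules ⥤ ModuleCat.{u} Γ(X, ⊤) :=
  Scheme.Modules.restrictFunctor X.isoSpec.inv ⋙ moduleSpecΓFunctor

/-- The adjunction. -/
noncomputable def adj : T X ⊣ G X :=
  (tilde.adjunction (R := Γ(X, ⊤))).comp (restrictEquiv X.isoSpec).toAdjunction

instance : (G X).Additive := (adj X).right_adjoint_additive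

variable {X}

lemma mem_essImage (M : X.Modules) (hM : Coh.IsQCoh M) : (T X).essImage M := by
  have h1 : Coh.IsQCoh (M.restrict X.isoSpec.inv) := Scheme.Modules.isQuasicoherent_restrictFunctor _ _
  have h2 : (tilde.functor Γ(X, ⊤)).essImage (M.restrict X.isoSpec.inv) := by
    rw [essImage_tilde]
    exact h1
  obtain ⟨N, ⟨e⟩⟩ := h2
  exact ⟨N, ⟨(Scheme.Modules.restrictFunctor X.isoSpec.hom).mapIso e ≪≫
    (restrictEquiv X.isoSpec).counitIso.app M⟩⟩

lemma isIso_counit (M : X.Modules) (hM : Coh.IsQCoh M) : IsIso ((adj X).counit.app M) := by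
  obtain ⟨N, ⟨e⟩⟩ := mem_essImage M hM
  exact (adj X).isIso_counit_app_of_iso e.symm

/-- A complex with quasi-coherent terms comes from a complex of modules. -/
noncomputable def cxIso (F : CochainComplex X.Modules ℤ) (hF : ∀ i : ℤ, Coh.IsQCoh (F.X i)) :
    ((T X).mapHomologicalComplex (ComplexShape.up ℤ)).obj
      (((G X).mapHomologicalComplex (ComplexShape.up ℤ)).obj F) ≅ F :=
  HomologicalComplex.Hom.isoOfComponents
    (fun i => @asIso _ _ _ _ ((adj X).counit.app (F.X i)) (isIso_counit _ (hF i)))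
    (fun i j _ => ((adj X).counit.naturality (F.d i j)).symm)

lemma isQCoh_of_isFinLocFree (M : X.Modules) (hM : FlatMod.IsFinLocFree M) : Coh.IsQCoh M :=
  Groth.Agent.Ega2.QCohLocal.isQCoh_of_isFinLocFree hM

lemma isFinLocFree_tilde_G (M : X.Modules) (hM : FlatMod.IsFinLocFree M) :
    FlatMod.IsFinLocFree (tilde (R := Γ(X, ⊤)) ((G X).obj M)) := by
  have h1 : FlatMod.IsFinLocFree (M.restrict X.isoSpec.inv) :=
    Groth.Agent.Dcoh.LocalD.isFinLocFree_restrict M X.isoSpec.inv hM
  have h2 : (M.restrict X.isoSpec.inv).IsQuasicoherent :=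
    Groth.Agent.Ega2.QCohLocal.isQCoh_of_isFinLocFree h1
  exact Groth.Agent.Dcoh.LocalD.isFinLocFree_of_iso
    (asIso (M.restrict X.isoSpec.inv).fromTildeΓ).symm h1

lemma projective_of_tilde {R : CommRingCat.{u}} (N : ModuleCat.{u} R)
    (h : FlatMod.IsFinLocFree (tilde (R := R) N)) : Projective N :=
  (IsProjective.iff_projective _).1 (Groth.Agent.PerfC.TildeFLF.finProj_of_isFinLocFree R N h).2

lemma projective_G (M : X.Modules) (hM : FlatMod.IsFinLocFree M) :
    Projective ((G X).obj M) :=
  projective_of_tilde _ (isFinLocFree_tilde_G M hM)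

lemma isKProjective_G (E : CochainComplex X.Modules ℤ) (b : ℤ) (hEb : ∀ i : ℤ, b < i → IsZero (E.X i))
    (hE : ∀ i : ℤ, FlatMod.IsFinLocFree (E.X i)) :
    CochainComplex.IsKProjective (((G X).mapHomologicalComplex (ComplexShape.up ℤ)).obj E) := by
  have h1 : ∀ n : ℤ, Projective ((((G X).mapHomologicalComplex (ComplexShape.up ℤ)).obj E).X n) :=
    fun n => projective_G _ (hE n)
  have h2 : CochainComplex.IsStrictlyLE (((G X).mapHomologicalComplex (ComplexShape.up ℤ)).obj E) b := by
    rw [CochainComplex.isStrictlyLE_iff]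
    intro i hi
    exact (G X).map_isZero (hEb i hi)
  exact CochainComplex.isKProjective_of_projective _ b

/-- Morphisms in `K(O_X)` and `D(O_X)`. -/
theorem bijective_Qh_map (E F : CochainComplex X.Modules ℤ) (b : ℤ)
    (hEb : ∀ i : ℤ, b < i → IsZero (E.X i))
    (hE : ∀ i : ℤ, FlatMod.IsFinLocFree (E.X i)) (hF : ∀ i : ℤ, Coh.IsQCoh (F.X i)) :
    Function.Bijective (fun φ : (HomotopyCategory.quotient X.Modules (ComplexShape.up ℤ)).obj E ⟶
        (HomotopyCategory.quotient X.Modules (ComplexShape.up ℤ)).obj F =>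
      (DerivedCategory.Qh (C := X.Modules)).map φ) := by
  have := isKProjective_G E b hEb hE
  exact bijective_Qh (cxIso E (fun i => isQCoh_of_isFinLocFree _ (hE i))) (cxIso F hF)
    (homotopy_of_map (T X)) (exists_map (T X))

/-- Chain maps with the same image in `D(O_X)` are homotopic. -/
theorem homotopy_of_Q_map_eq (E F : CochainComplex X.Modules ℤ) (b : ℤ)
    (hEb : ∀ i : ℤ, b < i → IsZero (E.X i))
    (hE : ∀ i : ℤ, FlatMod.IsFinLocFree (E.X i)) (hF : ∀ i : ℤ, Coh.IsQCoh (F.X i)) (f g : E ⟶ F)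
    (h : DerivedCategory.Q.map f = DerivedCategory.Q.map g) : Nonempty (Homotopy f g) := by
  have h1 := (bijective_Qh_map E F b hEb hE hF).1
    (a₁ := (HomotopyCategory.quotient _ _).map f) (a₂ := (HomotopyCategory.quotient _ _).map g) (by
      change DerivedCategory.Qh.map _ = DerivedCategory.Qh.map _
      rw [Q_map_eq, Q_map_eq, cancel_epi, cancel_mono] at h
      exact h)
  exact ⟨HomotopyCategory.homotopyOfEq _ _ h1⟩

/-- Acyclic bounded above complexes of finite locally free modules are contractible. -/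
theorem acyclic_iff (E : CochainComplex X.Modules ℤ) (b : ℤ)
    (hEb : ∀ i : ℤ, b < i → IsZero (E.X i)) (hE : ∀ i : ℤ, FlatMod.IsFinLocFree (E.X i)) :
    E.Acyclic ↔ Nonempty (Homotopy (𝟙 E) 0) := by
  constructor
  · intro h
    refine homotopy_of_Q_map_eq E E b hEb hE (fun i => isQCoh_of_isFinLocFree _ (hE i)) _ _ ?_
    have h1 : QuasiIso (0 : E ⟶ E) := by
      rw [quasiIso_iff]
      intro i
      rw [quasiIsoAt_iff_exactAt _ _ (h i)]
      exact h i
    have h2 : IsIso (DerivedCategory.Q.map (0 : E ⟶ E)) := by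
      rw [DerivedCategory.isIso_Q_map_iff_quasiIso]
      exact h1
    rw [Functor.map_zero] at h2
    exact ((isIsoZero_iff_source_target_isZero _ _).1 h2).1.eq_of_src _ _
  · rintro ⟨H⟩ i
    rw [HomologicalComplex.exactAt_iff_isZero_homology, IsZero.iff_id_eq_zero]
    rw [← HomologicalComplex.homologyMap_id, H.homologyMap_eq, HomologicalComplex.homologyMap_zero]

end Aff

end K312.AffK
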