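import Groth.Agent.PerfC.RHomTri
import Mathlib.CategoryTheory.Monoidal.Rigid.Braided
import Mathlib.CategoryTheory.Adjunction.Unique
import Mathlib.Tactic.CategoryTheory.Monoidal.Basic

/-!
# The evaluation map `RHom(F, G) ⊗ E ⟶ RHom(RHom(E, F), G)`

In a closed braided monoidal derived category (`adj K : tensorRight K ⊣ R K`), with its naturality in `E`
(`ev_naturality`) and the fact that it is an isomorphism when `E` has a dual (`isIso_ev`).
-/

set_option autoImplicit false
set_option backward.defeqAttrib.useBackward true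

set_option linter.unusedSectionVars false
universe w v u

open CategoryTheory CategoryTheory.Limits MonoidalCategory

namespace K312.EvalIso

open Groth.Agent.PerfC.RHomTri

variable {A : Type u} [Category.{v} A] [Abelian A] [HasDerivedCategory.{w} A]
  [MonoidalCategory (DerivedCategory A)] [BraidedCategory (DerivedCategory A)]
  (R : DerivedCategory A → DerivedCategory A ⥤ DerivedCategory A)
  (adj : ∀ K, tensorRight K ⊣ R K)

/-- Contravariant functoriality. -/
noncomputable abbrev r {P E : DerivedCategory A} (f : P ⟶ E) (F : DerivedCategory A) :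
    (R E).obj F ⟶ (R P).obj F :=
  ρ (tensoringRight (DerivedCategory A)) R adj f F

lemma r_whisker {P E : DerivedCategory A} (f : P ⟶ E) (F : DerivedCategory A) :
    r R adj f F ▷ P ≫ (adj P).counit.app F = (R E).obj F ◁ f ≫ (adj E).counit.app F := by
  have h := ((adj P).homEquiv ((R E).obj F) F).symm_apply_apply
    (((tensoringRight (DerivedCategory A)).map f).app _ ≫ (adj E).counit.app F)
  rw [Adjunction.homEquiv_counit] at h
  exact h

/-- The evaluation `E ⊗ RHom(E, F) ⟶ F`. -/
noncomputable def e (E F : DerivedCategory A) : E ⊗ (R E).obj F ⟶ F :=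
  (β_ E ((R E).obj F)).hom ≫ (adj E).counit.app F

lemma e_naturality {P E : DerivedCategory A} (f : P ⟶ E) (F : DerivedCategory A) :
    P ◁ r R adj f F ≫ e R adj P F = f ▷ (R E).obj F ≫ e R adj E F := by
  rw [e, e, BraidedCategory.braiding_naturality_right_assoc, r_whisker,
    BraidedCategory.braiding_naturality_left_assoc]

/-- The map `(RHom(F, G) ⊗ E) ⊗ RHom(E, F) ⟶ G`. -/
noncomputable def m (E F G : DerivedCategory A) : ((R F).obj G ⊗ E) ⊗ (R E).obj F ⟶ G :=
  (α_ _ _ _).hom ≫ (R F).obj G ◁ e R adj E F ≫ (adj F).counit.app G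

/-- The map `RHom(F, G) ⊗ E ⟶ RHom(RHom(E, F), G)`. -/
noncomputable def ev (E F G : DerivedCategory A) :
    (R F).obj G ⊗ E ⟶ (R ((R E).obj F)).obj G :=
  (adj ((R E).obj F)).homEquiv _ _ (m R adj E F G)

lemma m_naturality {P E : DerivedCategory A} (f : P ⟶ E) (F G : DerivedCategory A) :
    ((R F).obj G ⊗ P) ◁ r R adj f F ≫ m R adj P F G =
      ((R F).obj G ◁ f) ▷ (R E).obj F ≫ m R adj E F G := by
  rw [m, m]
  have h := congrArg (fun t => (R F).obj G ◁ t ≫ (adj F).counit.app G) (e_naturality R adj f F)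
  rw [MonoidalCategory.whiskerLeft_comp, MonoidalCategory.whiskerLeft_comp, Category.assoc,
    Category.assoc] at h
  rw [associator_naturality_right_assoc, h, associator_naturality_middle_assoc]

/-- Naturality in `E`. -/
theorem ev_naturality {P E : DerivedCategory A} (f : P ⟶ E) (F G : DerivedCategory A) :
    ev R adj P F G ≫ r R adj (r R adj f F) G = (R F).obj G ◁ f ≫ ev R adj E F G := by
  rw [r, comp_ρ, ev, Equiv.symm_apply_apply, ev]
  have h := (adj ((R E).obj F)).homEquiv_naturality_left ((R F).obj G ◁ f) (m R adj E F G)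
  refine Eq.trans ?_ h
  exact congrArg _ (m_naturality R adj f F G)

section Dual

variable (P Y : DerivedCategory A) [ExactPairing Y P]

/-- `RHom(P, F) ⟶ Y ⊗ F`, where `Y` is a dual of `P`. -/
noncomputable def d (F : DerivedCategory A) : (R P).obj F ⟶ Y ⊗ F :=
  (λ_ _).inv ≫ η_ Y P ▷ _ ≫ (α_ _ _ _).hom ≫ Y ◁ e R adj P F

/-- Tensoring on the left with `P` is left adjoint to `R P`. -/
noncomputable def adjL : tensorLeft P ⊣ R P :=
  (adj P).ofNatIsoLeft (BraidedCategory.tensorLeftIsoTensorRight P).symm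

lemma adjL_counit (F : DerivedCategory A) : (adjL R adj P).counit.app F = e R adj P F := rfl

theorem isIso_d (F : DerivedCategory A) : IsIso (d R adj P Y F) := by
  have h := Adjunction.homEquiv_symm_rightAdjointUniq_hom_app (adjL R adj P)
    (tensorLeftAdjunction Y P) F
  rw [adjL_counit] at h
  have h2 : (Adjunction.rightAdjointUniq (adjL R adj P) (tensorLeftAdjunction Y P)).hom.app F =
      d R adj P Y F := by
    rw [tensorLeftAdjunction, Equiv.symm_apply_eq, Adjunction.mkOfHomEquiv_homEquiv] at h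
    exact h
  rw [← h2]
  infer_instance

/-- The comparison `M ⊗ RHom(P, F) ⟶ (M ⊗ Y) ⊗ F`. -/
noncomputable def c (M F : DerivedCategory A) : M ⊗ (R P).obj F ⟶ (M ⊗ Y) ⊗ F :=
  M ◁ d R adj P Y F ≫ (α_ _ _ _).inv

instance isIso_c (M F : DerivedCategory A) : IsIso (c R adj P Y M F) := by
  have := isIso_d R adj P Y F
  rw [c]
  infer_instance

lemma c_eq (M F : DerivedCategory A) : c R adj P Y M F =
    ((ρ_ M).inv ≫ M ◁ η_ Y P ≫ (α_ _ _ _).inv) ▷ (R P).obj F ≫ (α_ _ _ _).hom ≫
      (M ⊗ Y) ◁ e R adj P F := by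
  rw [c, d]
  monoidal

/-- The key computation. -/
lemma key (F G M : DerivedCategory A) (z : M ⊗ Y ⟶ (R F).obj G) :
    (tensorRightHomEquiv M Y P ((R F).obj G) z) ▷ (R P).obj F ≫ m R adj P F G =
      c R adj P Y M F ≫ ((adj F).homEquiv (M ⊗ Y) G).symm z := by
  have h1 : tensorRightHomEquiv M Y P ((R F).obj G) z =
      (ρ_ M).inv ≫ (M ◁ η_ Y P) ≫ (α_ _ _ _).inv ≫ z ▷ P := rfl
  have h2 : ((adj F).homEquiv (M ⊗ Y) G).symm z = z ▷ F ≫ (adj F).counit.app G :=
    Adjunction.homEquiv_counit ..
  rw [h1, c_eq, h2, m]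
  simp only [comp_whiskerRight, Category.assoc, associator_naturality_left_assoc,
    whisker_exchange_assoc]

include Y in
/-- The evaluation map is an isomorphism for dualizable objects. -/
theorem isIso_ev (F G : DerivedCategory A) : IsIso (ev R adj P F G) := by
  refine isIso_of_yoneda_map_bijective _ fun M => ?_
  have h : (fun x : M ⟶ (R F).obj G ⊗ P => x ≫ ev R adj P F G) =
      (tensorRightHomEquiv M Y P ((R F).obj G)).symm.trans
        (((adj F).homEquiv (M ⊗ Y) G).symm.trans
          (((asIso (c R adj P Y M F)).symm.homFromEquiv (Z := G)).trans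
            ((adj ((R P).obj F)).homEquiv M G))) := by
    funext x
    obtain ⟨z, rfl⟩ := (tensorRightHomEquiv M Y P ((R F).obj G)).surjective x
    have h := (adj ((R P).obj F)).homEquiv_naturality_left
      (tensorRightHomEquiv M Y P ((R F).obj G) z) (m R adj P F G)
    rw [ev, ← h]
    simp only [Equiv.trans_apply, Equiv.symm_apply_apply]
    exact congrArg _ (key R adj P Y F G M z)
  rw [h]
  exact Equiv.bijective _

end Dual

end K312.EvalIso
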