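import Groth.Agent.DCoh.K312.EvalIso
import Groth.Agent.PerfC.RHomCmp556
import Groth.Agent.Dcoh.PerfDual
import Groth.Agent.Sga5.H836.SymD
import Groth.Agent.S1103
import Groth.Agent.S1039
import Mathlib.Algebra.Homology.Double

/-!
# `RHom(F, G) ⊗ E ≅ RHom(RHom(E, F), G)` for `E` in `D^b_coh` and `G` of finite injective dimension
-/

set_option autoImplicit false

universe u

open CategoryTheory CategoryTheory.Limits CategoryTheory.Pretriangulated MonoidalCategory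
  AlgebraicGeometry
attribute [local instance] HasDerivedCategory.standard

open scoped Groth.Agent.Dcoh.MonCat Groth.Agent.Dcoh.ModD

namespace K312.EvalX

open Groth.Agent.PerfC.DTens Groth.Agent.PerfC.RHomD Groth.Agent.PerfC.RHomBnd556
  Groth.Agent.Dcoh.PerfDual Groth.Agent.PerfC.IsoLocus Groth.Agent.Dcoh.ModD
  Groth.Agent.PerfC.HomCx

/-! ### Upper bounds of `RHom(A, I)` for `I` a bounded above complex of injectives -/

section Upper

variable {X : Scheme.{u}}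

theorem isStrictlyGE_map₂ (K L : CochainComplex X.Modules ℤ) (a b : ℤ)
    [K.IsStrictlyGE a] [L.IsStrictlyGE b] :
    ((DCoh.tensorCx.obj K).obj L).IsStrictlyGE (a + b) := by
  rw [CochainComplex.isStrictlyGE_iff]
  intro n hn
  rw [IsZero.iff_id_eq_zero]
  refine HomologicalComplex.mapBifunctor.hom_ext (K₁ := K) (K₂ := L) (F := DCoh.tensorBi)
    (fun p q hpq => ?_)
  refine IsZero.eq_of_src ?_ _ _
  have hpq' : p + q = n := hpq
  rcases lt_or_ge p a with hp | hp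
  · rw [IsZero.iff_id_eq_zero]
    have h1 : 𝟙 (K.X p) = 0 := (K.isZero_of_isStrictlyGE a p hp).eq_of_src _ _
    have h2 : 𝟙 ((DCoh.tensorBi.obj (K.X p)).obj (L.X q)) =
      (DCoh.tensorBi.map (𝟙 (K.X p))).app (L.X q) := by simp
    rw [h2, h1, Functor.map_zero]
    rfl
  · exact (DCoh.tensorBi.obj (K.X p)).map_isZero (L.isZero_of_isStrictlyGE b q (by lia))

/-- The internal Hom complex is bounded above. -/
theorem isStrictlyLE_hC (K I : CochainComplex X.Modules ℤ) (k d : ℤ)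
    [K.IsStrictlyGE k] [I.IsStrictlyLE d] : ((hC K).obj I).IsStrictlyLE (d - k) := by
  rw [CochainComplex.isStrictlyLE_iff]
  intro n hn
  rw [IsZero.iff_id_eq_zero]
  let M := ((hC K).obj I).X n
  have hrel : (ComplexShape.up ℤ).Rel n (n + 1) := rfl
  let W : CochainComplex X.Modules ℤ := HomologicalComplex.double (𝟙 M) hrel
  have hW : W.IsStrictlyGE n := by
    rw [CochainComplex.isStrictlyGE_iff]
    intro i hi
    exact HomologicalComplex.isZero_double_X _ _ _ (by omega) (by omega)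
  have hWK := isStrictlyGE_map₂ W K n k
  have h0 : ∀ f g : W ⟶ (hC K).obj I, f = g := by
    intro f g
    apply ((hCAdj K).homEquiv W I).symm.injective
    ext j : 1
    rcases lt_or_ge j (n + k) with hj | hj
    · exact (@CochainComplex.isZero_of_isStrictlyGE _ _ _ ((DCoh.tensorCx.obj W).obj K) (n + k) j
        hj hWK).eq_of_src _ _
    · exact (I.isZero_of_isStrictlyLE d j (by omega)).eq_of_tgt _ _
  have e := HomologicalComplex.evalCompCoyonedaCorepresentableByDoubleId hrel (by omega) M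
  exact (e.homEquiv (Y := (hC K).obj I)).symm.injective (h0 _ _)

/-- `RHom(A, I)` is bounded above by `d - k` for `A ≥ k` and `I` a bounded above by `d` K-injective complex. -/
theorem isLE_RH (A : DCoh.D X) (k : ℤ) [A.IsGE k] (I : CochainComplex X.Modules ℤ) (d : ℤ)
    [I.IsStrictlyLE d] (hI : I.IsKInjective) :
    ((RH A).obj (DerivedCategory.Q.obj I)).IsLE (d - k) := by
  obtain ⟨K, hK, ⟨e⟩⟩ := A.exists_iso_Q_obj_of_isGE k
  have h1 := isStrictlyLE_hC K I k d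
  have h2 : (DerivedCategory.Q.obj ((hC K).obj I)).IsLE (d - k) :=
    (DerivedCategory.isLE_Q_obj_iff _ _).2 inferInstance
  exact ⟨DerivedCategory.TStructure.t.isLE_of_iso (toRHIso K I hI ≪≫ rhIso e _) (d - k) |>.le⟩

end Upper

/-! ### The adjunctions for the monoidal structure -/

variable {X : Scheme.{u}}

/-- `- ⊗ K ⊣ RHom(K, -)`. -/
noncomputable def adjR (K : DCoh.D X) : tensorRight K ⊣ RH K :=
  (rhAdj K).ofNatIsoLeft (Classical.choice (nonempty_flipIso K))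

theorem isTriang_tensorLeft (M : DCoh.D X) : IsTriang (tensorLeft M) := by
  obtain ⟨e⟩ := nonempty_objIso M
  exact (isTriang_LTX_obj M).of_iso e

theorem isTriang_flip (M : DCoh.D X) : IsTriang ((tensoringRight (DCoh.D X)).flip.obj M) :=
  isTriang_tensorLeft M

theorem additive_tensorRight (K : DCoh.D X) : ((tensoringRight (DCoh.D X)).obj K).Additive := by
  obtain ⟨e⟩ := nonempty_flipIso K
  exact ((isTriang_LTX_flip_obj K).of_iso e).additive

theorem isLE_tensor (M K : DCoh.D X) (a b : ℤ) [M.IsLE a] [K.IsLE b] : (M ⊗ K : DCoh.D X).IsLE (a + b) := by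
  obtain ⟨e⟩ := nonempty_flipIso K
  have := isLE_LTX M K a b
  exact ⟨DerivedCategory.TStructure.t.isLE_of_iso (e.app M) (a + b) |>.le⟩

/-- Cohomology of `M ◁ α` in high degrees. -/
theorem isIso_whiskerLeft (M : DCoh.D X) (n : ℤ) [M.IsLE n] (Δ : Triangle (DCoh.D X))
    (hΔ : Δ ∈ distTriang (DCoh.D X)) (m : ℤ) [Δ.obj₃.IsLE m] (i : ℤ) (hi : n + m + 1 < i) :
    IsIso ((DerivedCategory.homologyFunctor X.Modules i).map (M ◁ Δ.mor₁)) := by
  obtain ⟨_, _⟩ := isTriang_tensorLeft M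
  have hT := (tensorLeft M).map_distinguished Δ hΔ
  have h3 := isLE_tensor M Δ.obj₃ n m
  have z1 := DerivedCategory.isZero_of_isLE (M ⊗ Δ.obj₃ : DCoh.D X) (n + m) i (by omega)
  have z2 := DerivedCategory.isZero_of_isLE (M ⊗ Δ.obj₃ : DCoh.D X) (n + m) (i - 1) (by omega)
  have e1 := DerivedCategory.HomologySequence.exact₂ _ hT i
  have e3 := DerivedCategory.HomologySequence.exact₁ _ hT (i - 1) i (by omega)
  have hepi : Epi ((DerivedCategory.homologyFunctor X.Modules i).map (M ◁ Δ.mor₁)) :=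
    e1.epi_f_iff.2 (z1.eq_of_tgt _ _)
  have hmono : Mono ((DerivedCategory.homologyFunctor X.Modules i).map (M ◁ Δ.mor₁)) :=
    e3.mono_g_iff.2 (z2.eq_of_src _ _)
  exact isIso_of_mono_of_epi ((DerivedCategory.homologyFunctor X.Modules i).map (M ◁ Δ.mor₁))

/-- The cone of a map which is an isomorphism on `H^i` for `i ≤ k` is `≥ k`. -/
theorem isGE_obj₃ (Δ : Triangle (DCoh.D X)) (hΔ : Δ ∈ distTriang (DCoh.D X)) (k : ℤ)
    (h1 : ∀ i : ℤ, i ≤ k → IsIso ((DerivedCategory.homologyFunctor _ i).map Δ.mor₁)) :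
    Δ.obj₃.IsGE k := by
  rw [DerivedCategory.isGE_iff]
  intro i hi
  have e1 := DerivedCategory.HomologySequence.exact₂ Δ hΔ i
  have e2 := DerivedCategory.HomologySequence.exact₃ Δ hΔ i (i + 1) rfl
  have e3 := DerivedCategory.HomologySequence.exact₁ Δ hΔ i (i + 1) rfl
  have i1 := h1 i (by omega)
  have i2 := h1 (i + 1) (by omega)
  have z1 : (DerivedCategory.homologyFunctor _ i).map Δ.mor₂ = 0 := e1.epi_f_iff.1 inferInstance
  have z2 : DerivedCategory.HomologySequence.δ Δ i (i + 1) rfl = 0 := e3.mono_g_iff.1 inferInstance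
  exact e2.isZero_X₂ z1 z2

open Groth.Agent.PerfC.RHomTri EvalIso

/-- The braiding on `D(O_X)`. -/
@[instance_reducible]
noncomputable def brX (X : Scheme.{u}) : BraidedCategory (DCoh.D X) :=
  (Groth.Agent.Sga5.H836.SymD.symmetricD (KF X)).toBraidedCategory

attribute [local instance] brX

theorem isIso_r₁ (Δ : Triangle (DCoh.D X)) (hΔ : Δ ∈ distTriang (DCoh.D X)) (m : ℤ)
    [Δ.obj₃.IsLE m] (F : DCoh.D X) (a : ℤ) [F.IsGE a] (i : ℤ) (hi : i < a - m - 1) :
    IsIso ((DerivedCategory.homologyFunctor X.Modules i).map (r RH adjR Δ.mor₁ F)) := by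
  have hC' : (Δ.obj₃⟦(-1 : ℤ)⟧).IsLE (m + 1) :=
    DerivedCategory.TStructure.t.isLE_shift Δ.obj₃ m (-1) (m + 1) (by omega)
  have g1 := isGE_RH Δ.obj₃ F a m
  have g2 := isGE_RH (Δ.obj₃⟦(-1 : ℤ)⟧) F a (m + 1)
  have z1 := DerivedCategory.isZero_of_isGE ((RH Δ.obj₃).obj F) (a - m) i (by omega)
  have z2 := DerivedCategory.isZero_of_isGE ((RH (Δ.obj₃⟦(-1 : ℤ)⟧)).obj F) (a - (m + 1)) i (by omega)
  exact isIso_homology_ρ (tensoringRight (DCoh.D X)) RH adjR isTriang_flip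
    additive_tensorRight F _ hΔ i z1 z2

theorem isIso_r₂ (Δ : Triangle (DCoh.D X)) (hΔ : Δ ∈ distTriang (DCoh.D X)) (k : ℤ)
    [Δ.obj₃.IsGE k] (G : DCoh.D X) (d : ℤ)
    (hG : ∀ (A : DCoh.D X) (k : ℤ), A.IsGE k → ((RH A).obj G).IsLE (d - k)) (i : ℤ) (hi : d - k < i) :
    IsIso ((DerivedCategory.homologyFunctor X.Modules i).map (r RH adjR Δ.mor₁ G)) := by
  have hC' : (Δ.obj₃⟦(-1 : ℤ)⟧).IsGE (k + 1) :=
    DerivedCategory.TStructure.t.isGE_shift Δ.obj₃ k (-1) (k + 1) (by omega)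
  have g1 := hG Δ.obj₃ k inferInstance
  have g2 := hG (Δ.obj₃⟦(-1 : ℤ)⟧) (k + 1) inferInstance
  have z1 := DerivedCategory.isZero_of_isLE ((RH Δ.obj₃).obj G) (d - k) i (by omega)
  have z2 := DerivedCategory.isZero_of_isLE ((RH (Δ.obj₃⟦(-1 : ℤ)⟧)).obj G) (d - (k + 1)) i (by omega)
  exact isIso_homology_ρ (tensoringRight (DCoh.D X)) RH adjR isTriang_flip
    additive_tensorRight G _ hΔ i z1 z2

/-- The way-out argument. -/
theorem isIso_ev_of_approx (E F G : DCoh.D X)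
    (hE : ∀ m : ℤ, ∃ Δ : Triangle (DCoh.D X), Δ ∈ distTriang (DCoh.D X) ∧ Δ.obj₂ = E ∧
      DCoh.IsPerfect Δ.obj₁ ∧ Δ.obj₃.IsLE m)
    (a : ℤ) [F.IsGE a] (n : ℤ) [((RH F).obj G).IsLE n] (d : ℤ)
    (hG : ∀ (A : DCoh.D X) (k : ℤ), A.IsGE k → ((RH A).obj G).IsLE (d - k)) :
    IsIso (ev RH adjR E F G) := by
  rw [DerivedCategory.isIso_iff]
  intro i
  obtain ⟨Δ, hΔ, rfl, hP, hC⟩ := hE (min (i - n - 2) (i - d + a - 3))
  set m := min (i - n - 2) (i - d + a - 3) with hm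
  obtain ⟨P', -, ⟨hpair⟩⟩ := exists_exactPairing Δ.obj₁ hP
  let _ := BraidedCategory.exactPairing_swap Δ.obj₁ P'
  have h1 : IsIso (ev RH adjR Δ.obj₁ F G) := isIso_ev RH adjR Δ.obj₁ P' F G
  have h2 := isIso_whiskerLeft ((RH F).obj G) n Δ hΔ m i (by omega)
  obtain ⟨A, g, h, hΔ'⟩ := distinguished_cocone_triangle (r RH adjR Δ.mor₁ F)
  have hA : (Triangle.mk (r RH adjR Δ.mor₁ F) g h).obj₃.IsGE (a - m - 2) :=
    isGE_obj₃ _ hΔ' _ fun j hj => isIso_r₁ Δ hΔ m F a j (by omega)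
  have h3 : IsIso ((DerivedCategory.homologyFunctor X.Modules i).map
      (r RH adjR (r RH adjR Δ.mor₁ F) G)) :=
    isIso_r₂ _ hΔ' (a - m - 2) G d hG i (by omega)
  have hn := congrArg (DerivedCategory.homologyFunctor X.Modules i).map
    (ev_naturality RH adjR Δ.mor₁ F G)
  rw [Functor.map_comp, Functor.map_comp] at hn
  have h5 : IsIso ((DerivedCategory.homologyFunctor X.Modules i).map
      ((RH F).obj G ◁ Δ.mor₁) ≫
      (DerivedCategory.homologyFunctor X.Modules i).map (ev RH adjR Δ.obj₂ F G)) := by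
    rw [← hn]
    infer_instance
  exact IsIso.of_isIso_comp_left ((DerivedCategory.homologyFunctor X.Modules i).map
      ((RH F).obj G ◁ Δ.mor₁)) _

/-- An object with bounded coherent cohomology on a Noetherian scheme is approximated by perfect objects. -/
theorem exists_approx [IsNoetherian X] (E : DCoh.D X) (hE : ∀ i, Coh.IsCoh (DCoh.HD E i)) (b : ℤ)
    [E.IsLE b] (m : ℤ) : ∃ Δ : Triangle (DCoh.D X), Δ ∈ distTriang (DCoh.D X) ∧ Δ.obj₂ = E ∧
      DCoh.IsPerfect Δ.obj₁ ∧ Δ.obj₃.IsLE m := by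
  have hq : DCoh.IsQCohD E := fun i => (hE i).1
  obtain ⟨r, hr⟩ := Groth.Agent.S1103.result X Set.univ isClosed_univ (by simp)
  obtain ⟨P, α, hP, -, h1, h2⟩ := hr (m + 1) E hq
    ((Groth.Agent.S1039.result X E hq _).2 ⟨fun i _ => hE i, b, inferInstance⟩)
    (fun i _ => Set.subset_univ _)
  obtain ⟨C, g, h, hΔ⟩ := distinguished_cocone_triangle α
  refine ⟨_, hΔ, rfl, hP, ?_⟩
  have := Groth.Agent.PerfC.RHomCmp556.isLE_obj₃ _ hΔ (m + 1) h1 h2
  rwa [add_sub_cancel_right] at this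

/-- The main theorem. -/
theorem main [IsNoetherian X] (K L I D : CochainComplex X.Modules ℤ)
    [DCoh.HasLTensorCx K] [DCoh.HasRSheafHom K] [DCoh.HasLTensorCx L] [DCoh.HasRSheafHom L]
    [DCoh.HasLTensorCx D] [DCoh.HasRSheafHom D]
    (hK : ∀ i, Coh.IsCoh (DCoh.HD (DCoh.toD X K) i)) (b : ℤ) (hKb : (DCoh.toD X K).IsLE b)
    (a : ℤ) (hL : (DCoh.toD X L).IsGE a) (hI : I.IsKInjective) (d : ℤ) (hId : I.IsStrictlyLE d)
    (n : ℤ) (hn : ((DCoh.RSheafHom L).obj (DCoh.toD X I)).IsLE n)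
    (hD : Nonempty (DCoh.toD X D ≅ (DCoh.RSheafHom K).obj (DCoh.toD X L))) :
    Nonempty ((DCoh.LTensorCx K).obj ((DCoh.RSheafHom L).obj (DCoh.toD X I)) ≅
      (DCoh.RSheafHom D).obj (DCoh.toD X I)) := by
  obtain ⟨eD⟩ := hD
  have hn' : ((RH (DCoh.toD X L)).obj (DCoh.toD X I)).IsLE n :=
    ⟨DerivedCategory.TStructure.t.isLE_of_iso ((rsIso L).app (DCoh.toD X I)) n |>.le⟩
  have h := isIso_ev_of_approx (DCoh.toD X K) (DCoh.toD X L) (DCoh.toD X I)
    (fun m => exists_approx _ hK b m) a n d (fun A k _ => isLE_RH A k I d hI)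
  have e1 : (DCoh.LTensorCx K).obj ((DCoh.RSheafHom L).obj (DCoh.toD X I)) ≅
      ((RH (DCoh.toD X L)).obj (DCoh.toD X I) ⊗ DCoh.toD X K : DCoh.D X) :=
    (Groth.Agent.Dcoh.ModTens.LTensorCxIso K).app _ ≪≫
      whiskerRightIso ((rsIso L).app (DCoh.toD X I)) (DCoh.toD X K)
  exact ⟨e1 ≪≫ @asIso _ _ _ _ _ h ≪≫
    rhIso (eD ≪≫ (rsIso K).app (DCoh.toD X L)) (DCoh.toD X I) ≪≫
    ((rsIso D).app (DCoh.toD X I)).symm⟩

end K312.EvalX
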