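import Groth.Agent.Cohder.PCTri2
import Groth.Agent.Dcoh.TopCoh
import Groth.Agent.Dcoh.FinLocFree
import Groth.Agent.PerfC.LiftTop
import Mathlib.Algebra.Homology.DerivedCategory.SingleTriangle

/-!
# Modules of finite type / of finite presentation as pseudo-coherent objects
-/

set_option autoImplicit false
universe u
open CategoryTheory CategoryTheory.Limits AlgebraicGeometry
attribute [local instance] HasDerivedCategory.standard

namespace K312.FTPC

open Groth.Agent Groth.Agent.Dcoh.LocalD Groth.Agent.Dcoh.FTFP Groth.Agent.CohqA.FinLocal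

variable {X : Scheme.{u}}

lemma isZero_HD_inD (M : X.Modules) (i : ℤ) (hi : i ≠ 0) : IsZero (DCoh.HD (DCoh.inD X M) i) := by
  rcases lt_or_gt_of_ne hi with h | h
  · exact DerivedCategory.isZero_of_isGE _ 0 i h
  · exact DerivedCategory.isZero_of_isLE _ 0 i h

/-- A module generated by finitely many sections is a quotient of a finite free module. -/
lemma exists_epi {M : X.Modules} (h : GFG M) :
    ∃ (n : ℕ) (p : FlatMod.freeMod X n ⟶ M), Epi p := by
  obtain ⟨σ, hσ⟩ := h
  exact Groth.Agent.PerfC.LiftTop.exists_epi_freeMod ⟨σ, hσ⟩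

/-- The map on cohomology induced by an epimorphism of modules in degree `0`. -/
lemma epi_homology_single {M N : X.Modules} (p : M ⟶ N) [Epi p] (i : ℤ) :
    Epi ((DerivedCategory.homologyFunctor _ i).map
      ((DerivedCategory.singleFunctor X.Modules 0).map p)) := by
  by_cases hi : i = 0
  · subst hi
    have e := (DerivedCategory.singleFunctorCompHomologyFunctorIso X.Modules 0).hom.naturality p
    have h2 : Epi ((DerivedCategory.homologyFunctor _ 0).map
      ((DerivedCategory.singleFunctor X.Modules 0).map p) ≫
        (DerivedCategory.singleFunctorCompHomologyFunctorIso X.Modules 0).hom.app N) := by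
      have h3 : Epi ((DerivedCategory.singleFunctorCompHomologyFunctorIso X.Modules 0).hom.app M ≫ p) :=
        epi_comp _ _
      exact e.symm ▸ h3
    have h4 : (DerivedCategory.homologyFunctor _ 0).map
        ((DerivedCategory.singleFunctor X.Modules 0).map p) =
      ((DerivedCategory.homologyFunctor _ 0).map
        ((DerivedCategory.singleFunctor X.Modules 0).map p) ≫
        (DerivedCategory.singleFunctorCompHomologyFunctorIso X.Modules 0).hom.app N) ≫
        (DerivedCategory.singleFunctorCompHomologyFunctorIso X.Modules 0).inv.app N := by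
      rw [Category.assoc, Iso.hom_inv_id_app]
      exact (Category.comp_id _).symm
    rw [h4]
    exact epi_comp _ _
  · have hz := isZero_HD_inD N i hi
    exact ⟨fun _ _ _ => hz.eq_of_src _ _⟩

/-- A module which is globally a quotient of a finite free module is `0`-pseudo-coherent. -/
lemma strPC_zero {M : X.Modules} (h : GFG M) : StrPC 0 X (DCoh.inD X M) := by
  obtain ⟨n, p, hp⟩ := exists_epi h
  refine ⟨(CochainComplex.singleFunctor X.Modules 0).obj (FlatMod.freeMod X n),
    (DerivedCategory.singleFunctorIsoCompQ X.Modules 0).inv.app _ ≫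
      (DerivedCategory.singleFunctor X.Modules 0).map p,
    Groth.Agent.PerfC.LiftTop.isStrictlyPerfect_single (Dcoh.FinLocFree.isFinLocFree_freeMod X n) 0, ?_, ?_⟩
  · intro i hi
    have h1 := isZero_HD_inD M i (by omega)
    have h2 := isZero_HD_inD (FlatMod.freeMod X n) i (by omega)
    have h3 := h2.of_iso ((DerivedCategory.homologyFunctor _ i).mapIso
      ((DerivedCategory.singleFunctorIsoCompQ X.Modules 0).symm.app (FlatMod.freeMod X n)))
    exact ⟨0, h3.eq_of_src _ _, h1.eq_of_src _ _⟩
  · rw [Functor.map_comp]
    have := epi_homology_single p 0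
    exact epi_comp _ _

/-- The restriction of a module in degree `0`. -/
noncomputable def restrictInD {U : Scheme.{u}} (f : U ⟶ X) [IsOpenImmersion f] (M : X.Modules) :
    (DCoh.restrictD f).obj (DCoh.inD X M) ≅ DCoh.inD U (M.restrict f) :=
  ((Scheme.Modules.restrictFunctor f).mapDerivedCategorySingleFunctor 0).app M

theorem pc_zero_of_isFT {M : X.Modules} (h : CohB1.IsFT M) :
    DCoh.IsPseudoCoherentD 0 (DCoh.inD X M) := by
  rw [isFT_iff'] at h
  refine isPseudoCoherentD_of_cover fun x => ?_
  obtain ⟨U, j, hj, hx, hU⟩ := h x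
  exact ⟨U, j, hj, hx, isPseudoCoherentD_of_iso (restrictInD j M).symm
    (isPseudoCoherentD_of_strPC (strPC_zero hU))⟩

/-- Kernels of surjections onto modules of finite presentation: the presentation version. -/
lemma pc_neg_one_of_gfp {M : X.Modules} (h : GFP M) :
    DCoh.IsPseudoCoherentD (-1) (DCoh.inD X M) := by
  obtain ⟨P, hP⟩ := h
  let F : X.Modules := SheafOfModules.free (R := X.ringCatSheaf) P.generators.I
  let π : F ⟶ M := P.generators.π
  have hπ : Epi π := P.generators.epi
  let K : X.Modules := kernel π
  have hK : GFG K := ⟨P.relations, hP.isFiniteType_relations⟩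
  have hI : Finite P.generators.I := hP.isFiniteType_generators.finite
  let e : FlatMod.freeMod X (Nat.card P.generators.I) ≅ F :=
    (Groth.Agent.PerfC.LiftTop.freeMIso X P.generators.I _ (Finite.equivFin P.generators.I)).symm
  have hF : DCoh.IsPseudoCoherentD (-1) (DCoh.inD X F) := by
    refine isPseudoCoherentD_of_iso ((DerivedCategory.singleFunctor X.Modules 0).mapIso e) ?_
    refine isPseudoCoherentD_of_strPC (strPC_of_strPerf _ ⟨_,
      Groth.Agent.PerfC.LiftTop.isStrictlyPerfect_single
        (Dcoh.FinLocFree.isFinLocFree_freeMod X (Nat.card P.generators.I)) 0,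
      ⟨(DerivedCategory.singleFunctorIsoCompQ X.Modules 0).app _⟩⟩)
  let S : ShortComplex X.Modules := ShortComplex.mk (kernel.ι π) π (kernel.condition π)
  have hS : S.ShortExact :=
    { exact := ShortComplex.exact_of_f_is_kernel _ (kernelIsKernel π)
      mono_f := inferInstanceAs (Mono (kernel.ι π))
      epi_g := hπ }
  refine Cohder.PCTri2.isPseudoCoherentD_obj₃ (-1) hS.singleTriangle hS.singleTriangle_distinguished
    ?_ hF
  exact isPseudoCoherentD_of_strPC (m := 0) (strPC_zero hK)

theorem pc_neg_one_of_isFP {M : X.Modules} (h : CohB1.IsFP M) :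
    DCoh.IsPseudoCoherentD (-1) (DCoh.inD X M) := by
  rw [isFP_iff'] at h
  refine isPseudoCoherentD_of_cover fun x => ?_
  obtain ⟨U, j, hj, hx, hU⟩ := h x
  exact ⟨U, j, hj, hx, isPseudoCoherentD_of_iso (restrictInD j M).symm (pc_neg_one_of_gfp hU)⟩

/-- The cohomology sheaf in degree `0` of a module in degree `0`. -/
noncomputable def hdInD (M : X.Modules) : DCoh.HD (DCoh.inD X M) 0 ≅ M :=
  (DerivedCategory.singleFunctorCompHomologyFunctorIso X.Modules 0).app M

end K312.FTPC
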