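import Groth.Agent.DCoh.K312.SmallRes
import Groth.Agent.Dcoh.KFlatMod
import Groth.Agent.Dcoh.DualFLF
import Groth.Agent.PerfA.ExtZero

/-!
# Functorial K-flat resolutions of complexes of `O_X`-modules
-/

set_option autoImplicit false

universe u

open CategoryTheory CategoryTheory.Limits HomologicalComplex CochainComplex AlgebraicGeometry

namespace K312.FunRes

open Groth.Agent Groth.Agent.PerfA.ExtZero Groth.Agent.CohtopA.TrivCof Groth.Agent.Dcoh.KFlatAbs
  Groth.Agent.Dcoh.CxFun

variable {X : Scheme.{u}}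

/-- `j_! O_V` is flat. -/
lemma isFlat_OU (V : X.Opens) : FlatMod.IsFlat (OU V) :=
  Dcoh.FlatRes.isFlat_shP_obj _ fun x => Dcoh.StalkFree.flat_stalk_fr (R := X.presheaf) x

lemma isSeparating : (ObjectProperty.ofObj (fun V : X.Opens => OU V)).IsSeparating := by
  intro M N f g h
  exact separating f g fun U a => h _ ⟨U⟩ a

lemma mono_map_inr {C D : Type*} [Category* C] [Category* D] [Abelian C] [Abelian D]
    (T : CochainComplex C ℤ ⥤ CochainComplex D ℤ) [T.CommShift ℤ] [T.PreservesZeroMorphisms]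
    [SplitTriFunctor T] {K L : CochainComplex C ℤ} (φ : K ⟶ L) :
    Mono (T.map (mappingCone.inr φ)) := by
  obtain ⟨σ, -⟩ := SplitTriFunctor.split T (mappingCone.triangleRotateShortComplex φ)
    (mappingCone.triangleRotateShortComplexSplitting φ)
  refine HomologicalComplex.mono_of_mono_f _ fun n => ?_
  let r : (T.obj (mappingCone φ)).X n ⟶ (T.obj L).X n := (σ n).r
  have h : (T.map (mappingCone.inr φ)).f n ≫ r = 𝟙 _ := (σ n).f_r
  have : Mono ((T.map (mappingCone.inr φ)).f n ≫ r) := by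
    rw [h]
    infer_instance
  exact mono_of_mono _ r

section

variable (L : CochainComplex X.Modules ℤ)

/-- `L ⊗ -` on complexes. -/
noncomputable abbrev T : CochainComplex X.Modules ℤ ⥤ CochainComplex X.Modules ℤ :=
  (DCoh.tensorBi (X := X)).map₂CochainComplex.obj L

instance : (T L).IsLeftAdjoint := by
  have := Dcoh.KFlatMod.isGrothendieckAbelian X
  have : IsGrothendieckAbelian.{u} (CochainComplex X.Modules ℤ) := inferInstance
  have : PreservesColimits (T L) := ⟨fun {J} _ => preservesColimitsOfShape_obj _ J L⟩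
  exact Dcoh.DualFLF.isLeftAdjoint_of_preservesColimits (T L)

end

lemma trivCof_map (L : CochainComplex X.Modules ℤ) (hL : L.Acyclic) (V : X.Opens) (n : ℤ) :
    trivCof X.Modules ((T L).map (SmallRes.celι (OU V) n)) := by
  have h1 : ((T L).obj (SmallRes.sph (OU V) n)).Acyclic :=
    (Dcoh.KFlatMod.isKFlat_iff_kfl _).1 (Dcoh.KFlatMod.isKFlat_single (OU V) (isFlat_OU V) n) L hL
  have h2 : ((T L).obj (SmallRes.cel (OU V) n)).Acyclic := acyclic_mappingCone (T L) _ h1 h1
  exact ⟨mono_map_inr _ _, quasiIso_of_acyclic _ h1 h2⟩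

/-- **Functorial K-flat resolutions.** -/
theorem exists_functor (X : Scheme.{u}) :
    ∃ (P : CochainComplex X.Modules ℤ ⥤ CochainComplex X.Modules ℤ)
      (ψ : P ⟶ 𝟭 (CochainComplex X.Modules ℤ)),
      ∀ C : CochainComplex X.Modules ℤ, DCoh.IsKFlat (P.obj C) ∧ QuasiIso (ψ.app C) := by
  have := Dcoh.KFlatMod.isGrothendieckAbelian X
  obtain ⟨P, ψ, h⟩ := SmallRes.exists_functor.{u} (fun V : X.Opens => OU V) isSeparating
  refine ⟨P, ψ, fun C => ⟨?_, (h C).2⟩⟩
  rw [Dcoh.KFlatMod.isKFlat_iff_kfl]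
  intro L hL
  exact SmallRes.acyclic_of_llp.{u} (fun V : X.Opens => OU V) (T L)
    (fun V n => trivCof_map L hL V n) (P.obj C) (h C).1

end K312.FunRes
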