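import Groth.Agent.DCoh.K312.InjLoc
import Groth.Agent.PerfC.InjFlasque
import Groth.Agent.PerfC.ExtZero2
import Groth.Agent.PerfB.QCohLocal
import Groth.Agent.PerfB.TildeExact
import Groth.Agent.LoccohB.TorsInj
import Groth.Agent.S2249
import Groth.Agent.PerfA.QCohSerre
import Groth.Prelude.Def_DCoh2

/-!
# Sections with support of quasi-coherent injective modules
-/

set_option autoImplicit false
universe u
open CategoryTheory CategoryTheory.Limits AlgebraicGeometry Opposite TopologicalSpace

namespace K312.GammaInj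

open Groth.Agent Groth.Agent.PerfC.InjFlasque Groth.Agent.PerfA.ExtZero

section Spec

variable {R : CommRingCat.{u}}

lemma injective_gamma (M : (Spec R).Modules) [Injective M] :
    Injective (moduleSpecΓFunctor.obj M : ModuleCat.{u} R) := by
  exact Injective.injective_of_adjoint (tilde.adjunction (R := R)) M

/-- A quasi-coherent submodule of an injective quasi-coherent module over a Noetherian ring is injective
if its global sections are the sections vanishing on an open set. -/
theorem injective_sub [IsNoetherianRing R] (M N : (Spec R).Modules) (i : N ⟶ M) [Mono i]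
    (hM : Coh.IsQCoh M) (hN : Coh.IsQCoh N) [Injective M] (a : Ideal R)
    (h : ∀ s : Γ(M, ⊤), (∃ t, i.app ⊤ t = s) ↔ ∀ f ∈ a, res M (le_top : bo f ≤ ⊤) s = 0) :
    Injective N := by
  have hM' := injective_gamma M
  let M' : ModuleCat.{u} R := moduleSpecΓFunctor.obj M
  let N' : ModuleCat.{u} R := moduleSpecΓFunctor.obj N
  let φ : N' ⟶ M' := moduleSpecΓFunctor.map i
  have hφ : Mono φ := by
    have : (moduleSpecΓFunctor (R := R)).PreservesMonomorphisms :=
      Functor.preservesMonomorphisms_of_adjunction tilde.adjunction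
    exact (moduleSpecΓFunctor (R := R)).map_mono i
  have hinj : Function.Injective φ.hom := (ModuleCat.mono_iff_injective φ).1 hφ
  have hr : LinearMap.range φ.hom = DRing.torsionSub a M' := by
    have hMq : M.IsQuasicoherent := hM
    ext s
    have h1 : s ∈ LinearMap.range φ.hom ↔ ∃ t : Γ(N, ⊤), i.app ⊤ t = s := Iff.rfl
    rw [h1, h s, LoccohB.TorsInj.mem_torsionSub_iff]
    constructor
    · intro hs
      let A : Ideal R := LinearMap.ker (LinearMap.toSpanSingleton R M' s)
      have h2 : a ≤ A.radical := by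
        intro f hf
        obtain ⟨n, hn⟩ := exists_pow_smul_eq_zero M f s (hs f hf)
        exact ⟨n, hn⟩
      obtain ⟨n, hn⟩ := Ideal.exists_pow_le_of_le_radical_of_fg h2 (IsNoetherian.noetherian a)
      exact ⟨n, fun f hf => hn hf⟩
    · rintro ⟨n, hn⟩ f hf
      have h3 := isLocalizedModule_res M f
      exact (IsLocalizedModule.eq_zero_iff (.powers f) (PerfC.InjFlasque.res M le_top) (m := s)).2
        ⟨⟨f ^ n, n, rfl⟩, hn _ (Ideal.pow_mem_pow hf n)⟩
  have hN' : Injective N' := by
    have h1 : Injective ((DRing.gammaI a).obj M') := inferInstance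
    refine Injective.of_iso (LinearEquiv.toModuleIso (X₁ := DRing.torsionSub a M') (X₂ := N')
      ((LinearEquiv.ofEq _ _ hr).symm.trans (LinearEquiv.ofInjective φ.hom hinj).symm)) h1
  let r : M' ⟶ N' := Injective.factorThru (𝟙 N') φ
  have hr : φ ≫ r = 𝟙 N' := Injective.comp_factorThru _ _
  have hcM : IsIso ((tilde.adjunction (R := R)).counit.app M) :=
    @Scheme.Modules.isIso_fromTildeΓ_of_isQuasicoherent R M hM
  have hcN : IsIso ((tilde.adjunction (R := R)).counit.app N) :=
    @Scheme.Modules.isIso_fromTildeΓ_of_isQuasicoherent R N hN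
  refine Retract.injective (Y := M) ⟨i, inv ((tilde.adjunction (R := R)).counit.app M) ≫
    (tilde.functor R).map r ≫ (tilde.adjunction (R := R)).counit.app N, ?_⟩
  have h2 : (tilde.functor R).map φ ≫ (tilde.adjunction (R := R)).counit.app M =
      (tilde.adjunction (R := R)).counit.app N ≫ i := (tilde.adjunction (R := R)).counit.naturality i
  have h3 : (tilde.adjunction (R := R)).counit.app N ≫ i ≫
      inv ((tilde.adjunction (R := R)).counit.app M) ≫ (tilde.functor R).map r ≫
        (tilde.adjunction (R := R)).counit.app N = (tilde.adjunction (R := R)).counit.app N := by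
    rw [← reassoc_of% h2, IsIso.hom_inv_id_assoc, ← Functor.map_comp_assoc, hr,
      CategoryTheory.Functor.map_id, Category.id_comp]
  rw [← cancel_epi ((tilde.adjunction (R := R)).counit.app N)]
  exact h3.trans (Category.comp_id _).symm

end Spec

section Gamma

variable {U X : Scheme.{u}} (j : U ⟶ X) [IsOpenImmersion j]

/-- The sections of `Γ_Z(I)`. -/
lemma exists_app_eq_iff (I : X.Modules) (W : X.Opens) (s : Γ(I, W)) :
    (∃ t, (kernel.ι ((Scheme.Modules.restrictAdjunction j).unit.app I)).app W t = s) ↔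
      I.presheaf.map (homOfLE (j.image_preimage_le W)).op s = 0 := by
  constructor
  · rintro ⟨t, rfl⟩
    have h1 := kernel.condition ((Scheme.Modules.restrictAdjunction j).unit.app I)
    have h2 := congrArg (fun φ => φ.app W) h1
    exact ConcreteCategory.congr_hom h2 t
  · intro hs
    have h1 : desc s ≫ (Scheme.Modules.restrictAdjunction j).unit.app I = 0 := by
      rw [desc_comp]
      refine Eq.trans ?_ desc_zero
      congr 1
    refine ⟨(kernel.lift _ (desc s) h1).app W (gen W), ?_⟩
    have h2 := congrArg (fun φ => φ.app W) (kernel.lift_ι _ (desc s) h1)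
    exact (ConcreteCategory.congr_hom h2 (gen W)).trans (desc_app_gen s)

/-- The ideal of an open of `Spec R`. -/
noncomputable def van {R : CommRingCat.{u}} (O : (Spec R).Opens) : Ideal R :=
  PrimeSpectrum.vanishingIdeal {p : PrimeSpectrum R | (show Spec R from p) ∉ O}

lemma mem_van_iff {R : CommRingCat.{u}} (O : (Spec R).Opens) (f : R) :
    f ∈ van O ↔ (bo f : (Spec R).Opens) ≤ O := by
  rw [van, PrimeSpectrum.mem_vanishingIdeal]
  constructor
  · intro h p hp
    by_contra hpO
    exact hp (h p hpO)
  · intro h p hp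
    by_contra hpf
    exact hp (h hpf)

lemma exists_mem_van {R : CommRingCat.{u}} (O : (Spec R).Opens) (p : Spec R) (hp : p ∈ O) :
    ∃ f : R, f ∈ van O ∧ p ∈ (bo f : (Spec R).Opens) := by
  obtain ⟨_, ⟨_, ⟨f, rfl⟩, rfl⟩, hpf, hf⟩ :=
    PrimeSpectrum.isBasis_basic_opens.exists_subset_of_mem_open hp O.2
  exact ⟨f, (mem_van_iff O f).2 hf, hpf⟩

/-- Sections with support, over an affine open. -/
lemma injective_restrict_gammaZ {R : CommRingCat.{u}} [IsNoetherianRing R] (k : Spec R ⟶ X)
    [IsOpenImmersion k] (I : X.Modules) (hI : Coh.IsQCoh I) [Injective I]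
    (hJ : Coh.IsQCoh ((DCoh.gammaZ j).obj I)) :
    Injective ((Scheme.Modules.restrictFunctor k).obj ((DCoh.gammaZ j).obj I)) := by
  have h1 : Injective ((Scheme.Modules.restrictFunctor k).obj I) :=
    Injective.injective_of_adjoint (Groth.Agent.PerfC.ExtZero.adj k) I
  let ι : (DCoh.gammaZ j).obj I ⟶ I := kernel.ι ((Scheme.Modules.restrictAdjunction j).unit.app I)
  have hι : Mono ((Scheme.Modules.restrictFunctor k).map ι) := by
    have : Mono ι := inferInstanceAs (Mono (kernel.ι _))
    have := Dcoh.LocalD.preservesFiniteLimits_restrict k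
    infer_instance
  let O : (Spec R).Opens := k ⁻¹ᵁ j.opensRange
  refine injective_sub _ _ ((Scheme.Modules.restrictFunctor k).map ι)
    (PerfA.QCohSerre.isQCoh_restrict k hI) (PerfA.QCohSerre.isQCoh_restrict k hJ)
    (van O) fun s => ?_
  refine (exists_app_eq_iff j I (k ''ᵁ ⊤) s).trans ?_
  have hle : ∀ f : R, (bo f : (Spec R).Opens) ≤ O → k ''ᵁ (bo f) ≤ j ''ᵁ (j ⁻¹ᵁ (k ''ᵁ ⊤)) := by
    intro f hf
    rw [Scheme.Hom.image_preimage_eq_opensRange_inf]
    refine le_inf ?_ (k.image_mono le_top)
    rintro _ ⟨p, hp, rfl⟩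
    exact hf hp
  constructor
  · intro hs f hf
    have h2 := hle f ((mem_van_iff O f).1 hf)
    have h3 := PerfC.CyclicGlue.res_res I (j.image_preimage_le (k ''ᵁ ⊤)) h2 s
    have h4 : PerfC.CyclicGlue.res I (j.image_preimage_le (k ''ᵁ ⊤)) s = 0 := hs
    have h5 : PerfC.CyclicGlue.res I h2 0 = 0 := map_zero (I.presheaf.map (homOfLE h2).op).hom
    exact h3.symm.trans ((congrArg (PerfC.CyclicGlue.res I h2) h4).trans h5)
  · intro hs
    refine PerfC.CyclicGlue.eq_of_locally I _ _ fun x hx => ?_
    have hx' := hx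
    rw [Scheme.Hom.image_preimage_eq_opensRange_inf] at hx'
    obtain ⟨hxj, p, -, rfl⟩ := hx'
    obtain ⟨f, hf, hpf⟩ := exists_mem_van O p hxj
    have h2 := hle f ((mem_van_iff O f).1 hf)
    refine ⟨k ''ᵁ (bo f), h2, ⟨p, hpf, rfl⟩, ?_⟩
    have h3 := PerfC.CyclicGlue.res_res I (j.image_preimage_le (k ''ᵁ ⊤)) h2 s
    have h5 : PerfC.CyclicGlue.res I h2 0 = 0 := map_zero (I.presheaf.map (homOfLE h2).op).hom
    exact (h3.trans (hs f hf)).trans h5.symm

/-- **Sections with support** of a quasi-coherent injective module on a Noetherian scheme. -/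
theorem injective_gammaZ [IsNoetherian X] (I : X.Modules) (hI : Coh.IsQCoh I) [Injective I] :
    Injective ((DCoh.gammaZ j).obj I) := by
  have : NoetherianSpace U := j.isOpenEmbedding.isInducing.noetherianSpace
  have : QuasiCompact j := inferInstance
  have : Coh.IsQCoh ((Scheme.Modules.restrictFunctor j).obj I) := PerfA.QCohSerre.isQCoh_restrict j hI
  have hJ : Coh.IsQCoh ((DCoh.gammaZ j).obj I) :=
    PerfA.QCohSerre.isQCoh_kernel _ hI (S2249.result j _)
  refine InjLoc.injective_of_local _ fun x => ?_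
  obtain ⟨_, ⟨V, hV, rfl⟩, hxV, -⟩ :=
    X.isBasis_affineOpens.exists_subset_of_mem_open (Set.mem_univ x) isOpen_univ
  have hV' : IsAffineOpen V := hV
  have hR : IsNoetherianRing Γ(X, V) := IsLocallyNoetherian.component_noetherian ⟨V, hV⟩
  refine ⟨V, hxV, ?_⟩
  have h1 := injective_restrict_gammaZ j hV'.fromSpec I hI hJ
  have h2 : Injective ((Scheme.Modules.restrictFunctor hV'.isoSpec.hom).obj
      ((Scheme.Modules.restrictFunctor hV'.fromSpec).obj ((DCoh.gammaZ j).obj I))) :=
    Injective.injective_of_adjoint (Groth.Agent.PerfC.ExtZero.adj hV'.isoSpec.hom) _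
  refine Injective.of_iso ?_ h2
  exact ((Scheme.Modules.restrictFunctorComp hV'.isoSpec.hom hV'.fromSpec).symm.app _) ≪≫
    (Scheme.Modules.restrictFunctorCongr hV'.isoSpec_hom_fromSpec).app _

end Gamma

end K312.GammaInj
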