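import Groth.Agent.Sga5.H845.FamBaer
import Groth.Agent.PerfA.ExtZero
import Groth.Agent.Dcoh.LocalD
import Groth.Agent.Dcoh.KFlatMod
import Groth.Agent.PerfC.ExtZero
import Groth.Agent.PerfC.CyclicGlue

/-!
# Injectivity of `O_X`-modules is a local property
-/

set_option autoImplicit false
universe u
open CategoryTheory CategoryTheory.Limits AlgebraicGeometry Opposite TopologicalSpace

namespace K312.InjLoc

open Groth.Agent Groth.Agent.Dcoh.LocalD Groth.Agent.PerfA.ExtZero Groth.Agent.PerfC.ExtZero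

variable {X : Scheme.{u}}

/-- Sections of `j_! O_V` vanish near the points outside `V`. -/
lemma fac_OU (V : X.Opens) : Fac V (𝟙 (OU V)) := by
  have h : LocZero V (OU V) V (gen V) := fun x hx hx' => absurd hx hx'
  obtain ⟨t, ht⟩ := exists_incl_app V h
  have h1 : desc t ≫ incl V (OU V) = 𝟙 (OU V) := by
    apply hom_ext
    rw [desc_comp, desc_app_gen, ht]
    rfl
  rw [← h1]
  intro W s
  exact incl_app_mem V (OU V) W ((desc t).app W s)

lemma app_injective {M N : X.Modules} (i : M ⟶ N) [Mono i] (W : X.Opens) :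
    Function.Injective (i.app W) := by
  intro a b hab
  have h : desc a ≫ i = desc b ≫ i := by rw [desc_comp, desc_comp, hab]
  exact desc_injective ((cancel_mono i).1 h)

lemma le_image (U W : X.Opens) : U.ι ''ᵁ (U.ι ⁻¹ᵁ W) ≤ W := by
  rw [Scheme.Hom.image_preimage_eq_opensRange_inf]
  exact inf_le_right

lemma mem_image {U W : X.Opens} {x : X} (hU : x ∈ U) (hW : x ∈ W) : x ∈ U.ι ''ᵁ (U.ι ⁻¹ᵁ W) := by
  rw [Scheme.Hom.image_preimage_eq_opensRange_inf, Scheme.Opens.opensRange_ι]
  exact ⟨hU, hW⟩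

/-- Maps out of a submodule of `j_! O_V` are determined by their restriction to `U ⊇ V`. -/
lemma eq_of_restrict {V U : X.Opens} (hVU : V ≤ U) {A J : X.Modules} (i : A ⟶ OU V) [Mono i]
    (f g : A ⟶ J) (h : (Scheme.Modules.restrictFunctor U.ι).map f =
      (Scheme.Modules.restrictFunctor U.ι).map g) : f = g := by
  apply Scheme.Modules.hom_ext
  intro W
  ext a
  refine PerfC.CyclicGlue.eq_of_locally J _ _ fun x hx => ?_
  by_cases hxU : x ∈ U
  · refine ⟨U.ι ''ᵁ (U.ι ⁻¹ᵁ W), le_image U W, mem_image hxU hx, ?_⟩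
    rw [← PerfC.CyclicGlue.app_res, ← PerfC.CyclicGlue.app_res]
    have h1 := congrArg (fun φ => φ.app (U.ι ⁻¹ᵁ W)) h
    exact ConcreteCategory.congr_hom h1 (PerfC.CyclicGlue.res A (le_image U W) a)
  · obtain ⟨W', hW', hxW', h0⟩ := fac_OU V W (i.app W a) x hx (fun hxV => hxU (hVU hxV))
    refine ⟨W', hW', hxW', ?_⟩
    have h1 : PerfC.CyclicGlue.res A hW' a = 0 := by
      apply app_injective i W'
      rw [map_zero, PerfC.CyclicGlue.app_res]
      exact h0
    rw [← PerfC.CyclicGlue.app_res, ← PerfC.CyclicGlue.app_res, h1, map_zero, map_zero]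

/-- Morphisms into a module which is injective over `U` extend along submodules of `j_! O_V` if
`V ≤ U`. -/
lemma exists_extension (U : X.Opens) (W : (U : Scheme.{u}).Opens) (J : X.Modules)
    [hJ : Injective ((Scheme.Modules.restrictFunctor U.ι).obj J)] {A : X.Modules}
    (i : A ⟶ OU (U.ι ''ᵁ W)) [Mono i] (f : A ⟶ J) : ∃ g : OU (U.ι ''ᵁ W) ⟶ J, i ≫ g = f := by
  have hi : Mono ((Scheme.Modules.restrictFunctor U.ι).map i) := inferInstance
  let g' : (Scheme.Modules.restrictFunctor U.ι).obj (OU (U.ι ''ᵁ W)) ⟶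
      (Scheme.Modules.restrictFunctor U.ι).obj J :=
    Injective.factorThru ((Scheme.Modules.restrictFunctor U.ι).map f)
      ((Scheme.Modules.restrictFunctor U.ι).map i)
  have hg' : (Scheme.Modules.restrictFunctor U.ι).map i ≫ g' =
    (Scheme.Modules.restrictFunctor U.ι).map f := Injective.comp_factorThru _ _
  let s : Γ(J, U.ι ''ᵁ W) := g'.app W (gen (U.ι ''ᵁ W))
  let g : OU (U.ι ''ᵁ W) ⟶ J := desc s
  have hg : (Scheme.Modules.restrictFunctor U.ι).map g = g' := by
    apply ((Scheme.Modules.restrictAdjunction U.ι).homEquiv _ _).injective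
    rw [Adjunction.homEquiv_unit, Adjunction.homEquiv_unit]
    apply hom_ext
    have h1 : g.app (U.ι ''ᵁ W) (gen (U.ι ''ᵁ W)) = s := desc_app_gen s
    have hle : U.ι ⁻¹ᵁ (U.ι ''ᵁ W) ≤ W := by simp
    have h2 := PerfC.CyclicGlue.app_res g (le_image U (U.ι ''ᵁ W)) (gen (U.ι ''ᵁ W))
    have h3 := PerfC.CyclicGlue.app_res g' hle (gen (U.ι ''ᵁ W))
    rw [h1] at h2
    exact h2.trans h3.symm
  have hle : U.ι ''ᵁ W ≤ U := (U.ι.image_le_opensRange W).trans (by simp)
  refine ⟨g, eq_of_restrict hle i _ _ ?_⟩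
  rw [Functor.map_comp]
  exact (congrArg ((Scheme.Modules.restrictFunctor U.ι).map i ≫ ·) hg).trans hg'

/-- **Injectivity is a local property** of `O_X`-modules. -/
theorem injective_of_local (J : X.Modules)
    (h : ∀ x : X, ∃ U : X.Opens, x ∈ U ∧
      Injective ((Scheme.Modules.restrictFunctor U.ι).obj J)) : Injective J := by
  have := Dcoh.KFlatMod.isGrothendieckAbelian (X := X)
  refine Sga5.H845.FamBaer.injective_of_extends
    (P := fun G => ∃ (U : X.Opens) (W : (U : Scheme.{u}).Opens),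
      Injective ((Scheme.Modules.restrictFunctor U.ι).obj J) ∧ G = OU (U.ι ''ᵁ W)) ?_ J ?_
  · intro M N f g hfg
    apply Scheme.Modules.hom_ext
    intro W
    ext a
    refine PerfC.CyclicGlue.eq_of_locally N _ _ fun x hx => ?_
    obtain ⟨U, hxU, hU⟩ := h x
    refine ⟨U.ι ''ᵁ (U.ι ⁻¹ᵁ W), le_image U W, mem_image hxU hx, ?_⟩
    rw [← PerfC.CyclicGlue.app_res, ← PerfC.CyclicGlue.app_res]
    have h1 := hfg _ ⟨U, U.ι ⁻¹ᵁ W, hU, rfl⟩ (desc (PerfC.CyclicGlue.res M (le_image U W) a))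
    rw [desc_comp, desc_comp] at h1
    exact desc_injective h1
  · rintro _ ⟨U, W, hU, rfl⟩ A i hi f
    exact exists_extension U W J i f

end K312.InjLoc
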