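import Groth.Agent.S3731
import Groth.Agent.Cohder.TruncFactor
import Mathlib.RingTheory.Filtration
import Mathlib.Data.Int.Interval
import Mathlib.RingTheory.Flat.Basic
import Mathlib.Algebra.Category.ModuleCat.Monoidal.Closed
import Mathlib.Algebra.Homology.ShortComplex.ModuleCat

/-!
# `J^(n+m) ⊗ K ⟶ J^m ⊗ K` is zero in the derived category, for `J` killing the cohomology of `K`
-/

set_option autoImplicit false
universe w u

open CategoryTheory MonoidalCategory TensorProduct

namespace K312.JAdic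

variable {A : Type u} [CommRing A]

section Elem

variable (M : Type u) [AddCommGroup M] [Module A M]

/-- Multiplication `I ⊗ M ⟶ M`. -/
noncomputable def mu (I : Ideal A) : I ⊗[A] M →ₗ[A] M :=
  (TensorProduct.lid A M).toLinearMap ∘ₗ I.subtype.rTensor M

@[simp]
lemma mu_tmul (I : Ideal A) (x : I) (y : M) : mu M I (x ⊗ₜ y) = (x : A) • y := rfl

lemma mu_injective (I : Ideal A) [Module.Flat A M] : Function.Injective (mu M I) :=
  (TensorProduct.lid A M).injective.comp
    (Module.Flat.rTensor_preserves_injective_linearMap _ (Submodule.injective_subtype I))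

lemma mu_mem (I : Ideal A) (z : I ⊗[A] M) : mu M I z ∈ I • (⊤ : Submodule A M) := by
  induction z with
  | zero => rw [map_zero]; exact Submodule.zero_mem _
  | tmul x y =>
    rw [mu_tmul]
    exact Submodule.smul_mem_smul x.2 Submodule.mem_top
  | add a b ha hb => rw [map_add]; exact Submodule.add_mem _ ha hb

lemma exists_mu (I : Ideal A) (y : M) (hy : y ∈ I • (⊤ : Submodule A M)) : ∃ z, mu M I z = y := by
  refine Submodule.smul_induction_on hy (fun r hr n _ => ⟨⟨r, hr⟩ ⊗ₜ n, rfl⟩) ?_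
  rintro x y ⟨a, rfl⟩ ⟨b, rfl⟩
  exact ⟨a + b, map_add _ _ _⟩

end Elem

/-- inclusion of ideals -/
noncomputable abbrev inc {I J : Ideal A} (h : I ≤ J) : ModuleCat.of A I ⟶ ModuleCat.of A J :=
  ModuleCat.ofHom (Submodule.inclusion h)

/-- `I ⊗ K` -/
noncomputable abbrev tcx (I : Ideal A) (K : CochainComplex (ModuleCat.{u} A) ℤ) :
    CochainComplex (ModuleCat.{u} A) ℤ :=
  (((curriedTensor (ModuleCat.{u} A)).obj (ModuleCat.of A I)).mapHomologicalComplex
    (ComplexShape.up ℤ)).obj K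

/-- `I ⊗ K ⟶ J ⊗ K` -/
noncomputable abbrev tmap {I J : Ideal A} (h : I ≤ J) (K : CochainComplex (ModuleCat.{u} A) ℤ) :
    tcx I K ⟶ tcx J K :=
  (NatTrans.mapHomologicalComplex ((curriedTensor (ModuleCat.{u} A)).map (inc h))
    (ComplexShape.up ℤ)).app K

lemma tmap_comp {I J L : Ideal A} (h : I ≤ J) (h' : J ≤ L) (K : CochainComplex (ModuleCat.{u} A) ℤ) :
    tmap h K ≫ tmap h' K = tmap (h.trans h') K := by
  have h1 : inc h ≫ inc h' = inc (h.trans h') := rfl
  ext q : 1
  change ((inc h) ▷ K.X q) ≫ ((inc h') ▷ K.X q) = (inc (h.trans h')) ▷ K.X q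
  rw [← comp_whiskerRight, h1]

variable (K : CochainComplex (ModuleCat.{u} A) ℤ)

lemma mu_tmap {I J : Ideal A} (h : I ≤ J) (q : ℤ) (z : (tcx I K).X q) :
    mu (K.X q) J (((tmap h K).f q).hom z) = mu (K.X q) I z := by
  change mu (K.X q) J (((inc h) ▷ K.X q).hom z) = mu (K.X q) I z
  have : (mu (K.X q) J) ∘ₗ ((inc h) ▷ K.X q).hom = mu (K.X q) I := by
    apply TensorProduct.ext'
    intro x y
    rfl
  exact LinearMap.congr_fun this z

lemma mu_d (I : Ideal A) (p q : ℤ) (z : (tcx I K).X p) :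
    mu (K.X q) I (((tcx I K).d p q).hom z) = (K.d p q).hom (mu (K.X p) I z) := by
  change mu (K.X q) I ((ModuleCat.of A I ◁ K.d p q).hom z) = _
  have : (mu (K.X q) I) ∘ₗ (ModuleCat.of A I ◁ K.d p q).hom = (K.d p q).hom ∘ₗ mu (K.X p) I := by
    apply TensorProduct.ext'
    intro x y
    change (x : A) • (K.d p q).hom y = (K.d p q).hom ((x : A) • y)
    rw [map_smul]
  exact LinearMap.congr_fun this z

/-- If `x` kills the homology and `z` is a cycle then `x z` is a boundary. -/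
lemma exists_boundary (q : ℤ) (x : A) (hx : ∀ c : ↑(K.homology q), x • c = 0) (z : K.X q)
    (hz : (K.d q (q + 1)).hom z = 0) : ∃ y : K.X (q - 1), (K.d (q - 1) q).hom y = x • z := by
  let φ : ModuleCat.of A A ⟶ K.X q := ModuleCat.ofHom (LinearMap.toSpanSingleton A (K.X q) z)
  have hφ : φ ≫ K.d q (q + 1) = 0 := by
    ext
    change (K.d q (q + 1)).hom ((1 : A) • z) = 0
    rw [one_smul, hz]
  let c : K.cycles q := (K.liftCycles φ (q + 1) (by simp) hφ).hom (1 : A)
  have hc : (K.iCycles q).hom c = z := by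
    have h1 := LinearMap.congr_fun (congrArg ModuleCat.Hom.hom
      (K.liftCycles_i φ (q + 1) (by simp) hφ)) (1 : A)
    refine h1.trans ?_
    change (1 : A) • z = z
    rw [one_smul]
  have h2 : (K.homologyπ q).hom (x • c) = 0 := by
    rw [map_smul]
    exact hx _
  have hex : (ShortComplex.mk (K.toCycles (q - 1) q) (K.homologyπ q)
      (K.toCycles_comp_homologyπ (q - 1) q)).Exact :=
    ShortComplex.exact_of_g_is_cokernel _ (K.homologyIsCokernel (q - 1) q (by simp))
  rw [ShortComplex.moduleCat_exact_iff] at hex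
  obtain ⟨y, hy⟩ := hex (x • c) h2
  refine ⟨y, ?_⟩
  have h3 := LinearMap.congr_fun (congrArg ModuleCat.Hom.hom (K.toCycles_i (q - 1) q)) y
  refine h3.symm.trans ?_
  change (K.iCycles q).hom ((K.toCycles (q - 1) q).hom y) = x • z
  have hy' : (K.toCycles (q - 1) q).hom y = x • c := hy
  rw [hy', map_smul, hc]

/-- Vanishing of a map on homology from a cycle criterion. -/
lemma homologyMap_eq_zero {K L : CochainComplex (ModuleCat.{u} A) ℤ} (φ : K ⟶ L) (i : ℤ)
    (h : ∀ x : K.X i, (K.d i (i + 1)).hom x = 0 → ∃ y : L.X (i - 1), (L.d (i - 1) i).hom y = (φ.f i).hom x) :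
    HomologicalComplex.homologyMap φ i = 0 := by
  rw [← cancel_epi (K.homologyπ i), HomologicalComplex.homologyπ_naturality, Limits.comp_zero]
  ext c
  have h1 : (K.d i (i + 1)).hom ((K.iCycles i).hom c) = 0 :=
    LinearMap.congr_fun (congrArg ModuleCat.Hom.hom (K.iCycles_d i (i + 1))) c
  obtain ⟨y, hy⟩ := h _ h1
  have hinj : Function.Injective (L.iCycles i).hom := (ModuleCat.mono_iff_injective (L.iCycles i)).1 inferInstance
  have e : (HomologicalComplex.cyclesMap φ i).hom c = (L.toCycles (i - 1) i).hom y := by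
    apply hinj
    have h2 := LinearMap.congr_fun (congrArg ModuleCat.Hom.hom (HomologicalComplex.cyclesMap_i φ i)) c
    have h3 := LinearMap.congr_fun (congrArg ModuleCat.Hom.hom (L.toCycles_i (i - 1) i)) y
    exact h2.trans (hy.symm.trans h3.symm)
  have h4 := LinearMap.congr_fun (congrArg ModuleCat.Hom.hom (L.toCycles_comp_homologyπ (i - 1) i)) y
  refine (congrArg (L.homologyπ i).hom e).trans ?_
  exact h4

/-- The map `J^(c+m) ⊗ K ⟶ J^m ⊗ K` is zero on `H^q`. -/
theorem exists_homologyMap_eq_zero [IsNoetherianRing A] (q : ℤ)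
    (hflat : ∀ q : ℤ, Module.Flat A (K.X q)) (hfin : Module.Finite A (K.X q))
    (J : Ideal A) (hJ : ∀ x ∈ J, ∀ c : ↑(K.homology q), x • c = 0) :
    ∃ c : ℕ, ∀ (l m : ℕ) (h : J ^ l ≤ J ^ m), c + m ≤ l →
      HomologicalComplex.homologyMap (tmap h K) q = 0 := by
  have := hflat q
  obtain ⟨k, hk⟩ := Ideal.exists_pow_inf_eq_pow_smul J (LinearMap.ker (K.d q (q + 1)).hom)
  refine ⟨k + 1, fun l m h hl => homologyMap_eq_zero _ _ (fun z hz => ?_)⟩
  have h1 : mu (K.X q) (J ^ l) z ∈ J ^ l • (⊤ : Submodule A (K.X q)) ⊓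
      LinearMap.ker (K.d q (q + 1)).hom := by
    refine ⟨mu_mem _ _ _, ?_⟩
    refine (mu_d K (J ^ l) q (q + 1) z).symm.trans ?_
    exact (congrArg (mu (K.X (q + 1)) (J ^ l)) hz).trans (map_zero _)
  rw [hk l (by omega)] at h1
  have h2 : mu (K.X q) (J ^ l) z ∈ Submodule.map (K.d (q - 1) q).hom (J ^ m • ⊤) := by
    have h3 : J ^ (l - k) • (J ^ k • ⊤ ⊓ LinearMap.ker (K.d q (q + 1)).hom) ≤
        Submodule.map (K.d (q - 1) q).hom (J ^ m • ⊤) := by
      rw [Submodule.map_smul'', Submodule.map_top]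
      have h4 : J ^ (l - k) ≤ J ^ m * J := by
        rw [← pow_succ]
        exact Ideal.pow_le_pow_right (by omega)
      refine (Submodule.smul_mono h4 inf_le_right).trans ?_
      rw [Submodule.mul_smul]
      refine Submodule.smul_mono le_rfl ?_
      rw [Submodule.smul_le]
      intro x hx y hy
      obtain ⟨w, hw⟩ := exists_boundary K q x (hJ x hx) y hy
      exact ⟨w, hw⟩
    exact h3 h1
  obtain ⟨y, hy, hy'⟩ := h2
  obtain ⟨w, hw⟩ := exists_mu (K.X (q - 1)) (J ^ m) y hy
  refine ⟨w, ?_⟩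
  apply mu_injective (K.X q) (J ^ m)
  rw [mu_tmap, ← hy', ← hw]
  exact mu_d K (J ^ m) (q - 1) q w

section Der

variable [HasDerivedCategory.{w} (ModuleCat.{u} A)]

/-- A uniform constant for all degrees. -/
theorem exists_uniform [IsNoetherianRing A] (a b : ℤ)
    (hK : ∀ q : ℤ, q < a ∨ b < q → Limits.IsZero (K.X q))
    (hfin : ∀ q : ℤ, Module.Finite A (K.X q)) (hflat : ∀ q : ℤ, Module.Flat A (K.X q))
    (J : Ideal A) (hJ : ∀ q : ℤ, ∀ x ∈ J, ∀ c : ↑(K.homology q), x • c = 0) :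
    ∃ c : ℕ, ∀ (q : ℤ) (l m : ℕ) (h : J ^ l ≤ J ^ m), c + m ≤ l →
      HomologicalComplex.homologyMap (tmap h K) q = 0 := by
  choose f hf using fun q => exists_homologyMap_eq_zero K q hflat (hfin q) J (hJ q)
  refine ⟨(Finset.Icc a b).sup f, fun q l m h hl => ?_⟩
  by_cases hq : q ∈ Finset.Icc a b
  · exact hf q l m h (by have := Finset.le_sup (f := f) hq; omega)
  · have hz : Limits.IsZero (K.X q) := hK q (by rw [Finset.mem_Icc] at hq; omega)
    have hz' : Limits.IsZero ((tcx (J ^ l) K).X q) :=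
      ((curriedTensor (ModuleCat.{u} A)).obj (ModuleCat.of A (J ^ l : Ideal A))).map_isZero hz
    refine Limits.IsZero.eq_of_src ?_ _ _
    exact (HomologicalComplex.ExactAt.isZero_homology
      (ShortComplex.exact_of_isZero_X₂ _ hz'))

/-- Factorisation through lower truncations. -/
theorem exists_factor (a b : ℤ) (hK : ∀ q : ℤ, q < a ∨ b < q → Limits.IsZero (K.X q))
    (J : Ideal A) (c : ℕ) (hc : ∀ (q : ℤ) (l m : ℕ) (h : J ^ l ≤ J ^ m), c + m ≤ l →
      HomologicalComplex.homologyMap (tmap h K) q = 0) (j : ℕ) :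
    ∀ (l m : ℕ) (h : J ^ l ≤ J ^ m), c * j + m ≤ l →
      ∃ (X' : DerivedCategory (ModuleCat.{u} A)) (_ : X'.IsLE (b - j))
        (f : DerivedCategory.Q.obj (tcx (J ^ l) K) ⟶ X') (g : X' ⟶ DerivedCategory.Q.obj (tcx (J ^ m) K)),
        DerivedCategory.Q.map (tmap h K) = f ≫ g := by
  induction j with
  | zero =>
    intro l m h hl
    refine ⟨DerivedCategory.Q.obj (tcx (J ^ l) K), ?_, 𝟙 _, DerivedCategory.Q.map (tmap h K),
      (Category.id_comp _).symm⟩
    have : (tcx (J ^ l) K).IsStrictlyLE b := by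
      rw [CochainComplex.isStrictlyLE_iff]
      intro i hi
      exact ((curriedTensor (ModuleCat.{u} A)).obj (ModuleCat.of A (J ^ l : Ideal A))).map_isZero
        (hK i (Or.inr hi))
    have h2 : (DerivedCategory.Q.obj (tcx (J ^ l) K)).IsLE b := inferInstance
    simpa using h2
  | succ j ih =>
    intro l m h hl
    have hl' : c * j + (c + m) ≤ l := by rw [Nat.mul_succ] at hl; omega
    have h1 : J ^ l ≤ J ^ (c + m) := Ideal.pow_le_pow_right (by omega)
    have h2 : J ^ (c + m) ≤ J ^ m := Ideal.pow_le_pow_right (by omega)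
    obtain ⟨X', hX', f, g, hfg⟩ := ih l (c + m) h1 hl'
    obtain ⟨X'', hX'', f', g', hfg'⟩ := Groth.Agent.S3731.exists_factor (b - j) (b - (j + 1 : ℕ))
      (by push_cast; ring) (g ≫ DerivedCategory.Q.map (tmap h2 K)) hX' (by
        rw [Functor.map_comp, Groth.Agent.Cohder.TruncFactor.homologyFunctor_map_Q_map_eq_zero _ _
          (hc (b - j) (c + m) m h2 le_rfl), Limits.comp_zero])
    refine ⟨X'', hX'', f ≫ f', g', ?_⟩
    rw [← tmap_comp h1 h2, Functor.map_comp, hfg, Category.assoc, hfg', Category.assoc]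

theorem exists_zero [IsNoetherianRing A] (a b : ℤ)
    (hK : ∀ q : ℤ, q < a ∨ b < q → Limits.IsZero (K.X q))
    (hfin : ∀ q : ℤ, Module.Finite A (K.X q)) (hflat : ∀ q : ℤ, Module.Flat A (K.X q))
    (J : Ideal A) (hJ : ∀ q : ℤ, ∀ x ∈ J, ∀ c : ↑(K.homology q), x • c = 0) :
    ∃ n : ℕ, ∀ (m : ℕ) (h : J ^ (n + m) ≤ J ^ m), DerivedCategory.Q.map (tmap h K) = 0 := by
  obtain ⟨c, hc⟩ := exists_uniform K a b hK hfin hflat J hJ
  let N : ℕ := (b - a + 1).toNat
  have hN : b - a + 1 ≤ N := Int.self_le_toNat _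
  refine ⟨c * N, fun m h => ?_⟩
  obtain ⟨X', hX', f, g, hfg⟩ := exists_factor K a b hK J c hc N (c * N + m) m h le_rfl
  have : (tcx (J ^ m) K).IsStrictlyGE a := by
    rw [CochainComplex.isStrictlyGE_iff]
    intro i hi
    exact ((curriedTensor (ModuleCat.{u} A)).obj (ModuleCat.of A (J ^ m : Ideal A))).map_isZero
      (hK i (Or.inl hi))
  have h2 : (DerivedCategory.Q.obj (tcx (J ^ m) K)).IsGE a := inferInstance
  have hg : g = 0 := DerivedCategory.TStructure.t.zero_of_isLE_of_isGE g (b - N) a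
    (by omega) hX' h2
  rw [hfg, hg, Limits.comp_zero]

end Der

end K312.JAdic
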