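import Groth.Agent.PerfB.StalkKFlat
import Groth.Prelude.Def_DerSch
import Groth.Prelude.Def_KFlatSite

/-!
# K-flatness through the frozen stalk functor
-/

set_option autoImplicit false
universe u
open CategoryTheory CategoryTheory.Limits AlgebraicGeometry MonoidalCategory

namespace K312.KFlatStalk

open Groth.Agent.Dcoh.KFlatAbs Groth.Agent.Dcoh.Stalk Groth.Agent.PerfB.RingKFlat

variable {X : Scheme.{u}}

/-- The frozen stalk functor is the library's one. -/
noncomputable def stalkIso (x : X) : stalkF x ≅ DerSch.stalkFunctor X x :=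
  NatIso.ofComponents (fun M => Iso.refl _) (fun {M N} φ => by
    ext t
    change ((stalkF x).map φ).hom t = Algz.stalkMapAb φ x t
    obtain ⟨U, hU, s, rfl⟩ := TopCat.Presheaf.exists_germ_eq M.presheaf t
    refine (Groth.Agent.Dcoh.FlatTor.stalkF_map_germ x φ U hU s).trans ?_
    exact (TopCat.Presheaf.stalkFunctor_map_germ_apply U x hU φ.mapPresheaf s).symm)

lemma kfl_iff {R : Type u} [CommRing R] (K : CochainComplex (ModuleCat.{u} R) ℤ) :
    KFl (TR R) K ↔ DRing.IsKFlat R K := by
  unfold DRing.IsKFlat KFl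
  simp only [HomologicalComplex.Acyclic, HomologicalComplex.exactAt_iff_isZero_homology]
  rfl

lemma kfl_of_iso {R : Type u} [CommRing R] {K K' : CochainComplex (ModuleCat.{u} R) ℤ}
    (e : K ≅ K') (h : KFl (TR R) K) : KFl (TR R) K' := fun L hL =>
  Groth.Agent.Dcoh.KFlatSingle.acyclic_of_iso (((TR R).map₂CochainComplex.obj L).mapIso e) (h L hL)

/-- K-flatness of a complex of `O_X`-modules can be checked on stalks. -/
theorem isKFlat_iff (F : CochainComplex X.Modules ℤ) :
    DCoh.IsKFlat F ↔ ∀ x : X, DRing.IsKFlat (X.presheaf.stalk x)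
      (((DerSch.stalkFunctor X x).mapHomologicalComplex (ComplexShape.up ℤ)).obj F) := by
  rw [Groth.Agent.PerfB.StalkKFlat.isKFlat_iff_stalk]
  refine forall_congr' fun x => ?_
  rw [← kfl_iff]
  have e := (NatIso.mapHomologicalComplex (stalkIso x) (ComplexShape.up ℤ)).app F
  exact ⟨kfl_of_iso e, kfl_of_iso e.symm⟩

end K312.KFlatStalk
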