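import Groth.Agent.FormalB.BCLoc
import Groth.Agent.PerfA.MVAbs
import Groth.Agent.Dcoh.DerSch
import Groth.Agent.Dcoh.MapDer

/-!
# The Mayer–Vietoris triangle `E ⟶ Rj_U* E|_U ⊞ Rj_V* E|_V ⟶ Rj_(U ∩ V)* E|_(U ∩ V)`
-/

set_option autoImplicit false
universe v₁ u u₁

open CategoryTheory CategoryTheory.Limits AlgebraicGeometry Opposite Pretriangulated
attribute [local instance] HasDerivedCategory.standard

namespace K312.MV

open Groth.Agent.FormalB.BC Groth.Agent.PerfA.MVAbs Groth.Agent.Dcoh.DerSch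

variable {X : Scheme.{u}}

/-- Objects of `D(O_X)` are represented by K-injective complexes with injective terms. -/
lemma exists_rep (E : DCoh.D X) : ∃ I : CochainComplex X.Modules ℤ, I.IsKInjective ∧
    (∀ n, Injective (I.X n)) ∧ Nonempty (DerivedCategory.Q.obj I ≅ E) := by
  have := isGrothendieckAbelian X
  obtain ⟨I, f, hI, hf, -, hinj⟩ := Groth.Agent.S0476.result (DerivedCategory.Q.objPreimage E)
  have : IsIso (DerivedCategory.Q.map f) := by
    rw [DerivedCategory.isIso_Q_map_iff_quasiIso]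
    exact hf
  exact ⟨I, hI, hinj,
    ⟨(asIso (DerivedCategory.Q.map f)).symm ≪≫ DerivedCategory.Q.objObjPreimageIso E⟩⟩

open Scheme.Modules in
/-- The Mayer–Vietoris square for a covering by two opens. -/
theorem isPullback_eta {U V : X.Opens} (hUV : U ⊔ V = ⊤) (M : X.Modules) :
    IsPullback (eta U M) (eta V M)
      ((resL (inf_le_left : U ⊓ V ≤ U)).app M) ((resL (inf_le_right : U ⊓ V ≤ V)).app M) := by
  have hp : PreservesLimitsOfShape WalkingCospan (toPresheaf X) :=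
    preservesLimitsOfShape_of_equiv (J := WalkingCospan) CategoryTheory.Equivalence.refl _
  have hr : ReflectsLimit (cospan ((resL (inf_le_left : U ⊓ V ≤ U)).app M)
      ((resL (inf_le_right : U ⊓ V ≤ V)).app M)) (toPresheaf X) :=
    reflectsLimit_of_reflectsIsomorphisms _ _
  refine IsPullback.of_map_of_faithful (toPresheaf X) ?_
  refine IsPullback.of_forall_isPullback_app fun O => ?_
  have h1 : lo U O.unop ⊔ lo V O.unop = O.unop := by
    rw [lo_eq, lo_eq, ← inf_sup_right, hUV, top_inf_eq]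
  have h2 : lo U O.unop ⊓ lo V O.unop = lo (U ⊓ V) O.unop := by
    rw [lo_eq, lo_eq, lo_eq, ← inf_inf_distrib_right]
  exact Groth.Agent.VarietyB.ModGlue.isPullback_sections M h1 h2 (lo_le_right U _)
    (lo_le_right V _) (lo_mono inf_le_left le_rfl) (lo_mono inf_le_right le_rfl)

/-- The unit as a natural transformation. -/
noncomputable def etaNat (W : X.Opens) : 𝟭 X.Modules ⟶ locF W where
  app M := eta W M
  naturality _ _ φ := eta_naturality W φ

lemma comm_eta {U V : X.Opens} (M : X.Modules) :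
    (etaNat U).app M ≫ (resL (inf_le_left : U ⊓ V ≤ U)).app M =
      (etaNat V).app M ≫ (resL (inf_le_right : U ⊓ V ≤ V)).app M :=
  (eta_resL _ M).trans (eta_resL _ M).symm

theorem epi_resL (M : X.Modules) [Injective M] {W₁ W₂ : X.Opens} (h : W₁ ≤ W₂) :
    Epi ((resL h).app M) := by
  apply epi_of_surjective
  intro U
  exact Groth.Agent.Ega3B.InjMod.surjective_map_of_injective M
    (homOfLE (lo_mono h le_rfl : lo W₁ U ≤ lo W₂ U))

theorem shortExact_of_isPullback {C : Type*} [Category* C] [Abelian C] {A B₁ B₂ D : C} {f : A ⟶ B₁}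
    {g : A ⟶ B₂} {h : B₁ ⟶ D} {k : B₂ ⟶ D} (hp : IsPullback f g h k) [Epi h]
    (w : biprod.lift f (-g) ≫ biprod.desc h k = 0) :
    (ShortComplex.mk (biprod.lift f (-g)) (biprod.desc h k) w).ShortExact := by
  have h0 : Epi (biprod.desc h (-k)) := epi_of_epi_fac (f := biprod.inl) (biprod.inl_desc _ _)
  have h1 : hp.shortComplex'.ShortExact :=
    { exact := hp.exact_shortComplex'
      mono_f := hp.mono_shortComplex'_f
      epi_g := h0 }
  have e0 : biprod.map (𝟙 B₁) (-𝟙 B₂) ≫ biprod.map (𝟙 B₁) (-𝟙 B₂) = 𝟙 _ := by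
    apply biprod.hom_ext <;> simp
  let e₂ : B₁ ⊞ B₂ ≅ B₁ ⊞ B₂ :=
    { hom := biprod.map (𝟙 _) (-𝟙 _)
      inv := biprod.map (𝟙 _) (-𝟙 _)
      hom_inv_id := e0
      inv_hom_id := e0 }
  refine ShortComplex.shortExact_of_iso (S₁ := hp.shortComplex')
    (S₂ := ShortComplex.mk (biprod.lift f (-g)) (biprod.desc h k) w)
    (ShortComplex.isoMk (Iso.refl _) e₂ (Iso.refl _) ?_ ?_) h1
  · change 𝟙 _ ≫ biprod.lift f (-g) = biprod.lift f g ≫ biprod.map (𝟙 _) (-𝟙 _)
    apply biprod.hom_ext <;> simp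
  · change biprod.map (𝟙 _) (-𝟙 _) ≫ biprod.desc h k = biprod.desc h (-k) ≫ 𝟙 _
    apply biprod.hom_ext' <;> simp

theorem shortExact_mv {U V : X.Opens} (hUV : U ⊔ V = ⊤) (M : X.Modules) [Injective M] :
    (mv (etaNat U) (etaNat V) (resL (inf_le_left : U ⊓ V ≤ U)) (resL (inf_le_right : U ⊓ V ≤ V))
      comm_eta M).ShortExact := by
  have he := epi_resL M (inf_le_left : U ⊓ V ≤ U)
  exact shortExact_of_isPullback (isPullback_eta hUV M) _

/-- Degreewise version of `MVAbs.shortExact_mvCx`. -/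
lemma shortExact_mvCx' {U V : X.Opens} (hUV : U ⊔ V = ⊤) (K : CochainComplex X.Modules ℤ)
    (hK : ∀ i, Injective (K.X i)) :
    (mvCx (etaNat U) (etaNat V) (resL (inf_le_left : U ⊓ V ≤ U)) (resL (inf_le_right : U ⊓ V ≤ V))
      comm_eta K).ShortExact := by
  apply HomologicalComplex.shortExact_of_degreewise_shortExact
  intro i
  have := hK i
  let ev := HomologicalComplex.eval X.Modules (ComplexShape.up ℤ) i
  let e : mv (etaNat U) (etaNat V) (resL (inf_le_left : U ⊓ V ≤ U))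
      (resL (inf_le_right : U ⊓ V ≤ V)) comm_eta (K.X i) ≅
      (mvCx (etaNat U) (etaNat V) (resL (inf_le_left : U ⊓ V ≤ U))
        (resL (inf_le_right : U ⊓ V ≤ V)) comm_eta K).map ev :=
    ShortComplex.isoMk (Iso.refl _)
      (ev.mapBiprod (((locF U).mapHomologicalComplex (.up ℤ)).obj K)
        (((locF V).mapHomologicalComplex (.up ℤ)).obj K)).symm (Iso.refl _)
      (by
        have h1 := biprod.map_lift_mapBiprod ev _ _ (mapCx (etaNat U) K) (-mapCx (etaNat V) K)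
        rw [← Iso.eq_comp_inv] at h1
        refine (Category.id_comp _).trans (h1.trans ?_)
        rfl)
      (by
        have h1 := biprod.mapBiprod_inv_map_desc ev _ _
          (mapCx (resL (inf_le_left : U ⊓ V ≤ U)) K) (mapCx (resL (inf_le_right : U ⊓ V ≤ V)) K)
        refine h1.trans ?_
        exact (Category.comp_id _).symm)
  exact ShortComplex.shortExact_of_iso e (shortExact_mv hUV (K.X i))

/-- `Rj_* j^* (Q I) ≅ Q (j_* j^* I)` for `I` K-injective. -/
noncomputable def pushRes {U : Scheme.{u}} (j : U ⟶ X) [IsOpenImmersion j] [DCoh.HasRpush j]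
    (I : CochainComplex X.Modules ℤ) (hI : I.IsKInjective) :
    (DCoh.Rpush j).obj ((DCoh.restrictD j).obj (DerivedCategory.Q.obj I)) ≅
      DerivedCategory.Q.obj (((Scheme.Modules.restrictFunctor j ⋙
        Scheme.Modules.pushforward j).mapHomologicalComplex (ComplexShape.up ℤ)).obj I) :=
  (DCoh.Rpush j).mapIso ((Scheme.Modules.restrictFunctor j).mapDerivedCategoryFactors.app I) ≪≫
    rpushIso j _ (isKInjective_restrict j I hI)

/-- The Mayer–Vietoris triangle. -/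
theorem exists_mv {U V : X.Opens} (hUV : U ⊔ V = ⊤)
    [DCoh.HasRpush U.ι] [DCoh.HasRpush V.ι] [DCoh.HasRpush (U ⊓ V).ι] (E : DCoh.D X) :
    ∃ (a : E ⟶ ((DCoh.Rpush U.ι).obj ((DCoh.restrictD U.ι).obj E) ⊞
        (DCoh.Rpush V.ι).obj ((DCoh.restrictD V.ι).obj E)))
      (b : ((DCoh.Rpush U.ι).obj ((DCoh.restrictD U.ι).obj E) ⊞
        (DCoh.Rpush V.ι).obj ((DCoh.restrictD V.ι).obj E)) ⟶
          (DCoh.Rpush (U ⊓ V).ι).obj ((DCoh.restrictD (U ⊓ V).ι).obj E))
      (c : (DCoh.Rpush (U ⊓ V).ι).obj ((DCoh.restrictD (U ⊓ V).ι).obj E) ⟶ (E)⟦(1 : ℤ)⟧),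
      Triangle.mk a b c ∈ distTriang (DCoh.D X) := by
  obtain ⟨I, hI, hinj, ⟨e⟩⟩ := exists_rep E
  have hS := shortExact_mvCx' hUV I hinj
  have hT := DerivedCategory.triangleOfSES_distinguished hS
  let e' : ∀ (W : X.Opens) [DCoh.HasRpush W.ι],
      DerivedCategory.Q.obj (((locF W).mapHomologicalComplex (.up ℤ)).obj I) ≅
        (DCoh.Rpush W.ι).obj ((DCoh.restrictD W.ι).obj E) := fun W _ =>
    (pushRes W.ι I hI).symm ≪≫ (DCoh.Rpush W.ι).mapIso ((DCoh.restrictD W.ι).mapIso e)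
  let e₁ : DerivedCategory.Q.obj (((𝟭 X.Modules).mapHomologicalComplex (.up ℤ)).obj I) ≅ E :=
    DerivedCategory.Q.mapIso ((Functor.mapHomologicalComplexIdIso X.Modules
      (ComplexShape.up ℤ)).app I) ≪≫ e
  let e₂ := DerivedCategory.Q.mapBiprod (((locF U).mapHomologicalComplex (.up ℤ)).obj I)
    (((locF V).mapHomologicalComplex (.up ℤ)).obj I) ≪≫ biprod.mapIso (e' U) (e' V)
  exact ⟨_, _, _, isom_dist _ hT e₁ e₂ (e' (U ⊓ V))⟩

/-- Image of a triangle `E ⟶ P ⊞ Q ⟶ R ⟶` under a triangulated functor. -/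
theorem exists_map {C : Type*} [Category* C] [Preadditive C] [HasZeroObject C]
    [HasShift C ℤ] [∀ n : ℤ, (shiftFunctor C n).Additive] [Pretriangulated C]
    {T : Type*} [Category* T] [Preadditive T] [HasZeroObject T]
    [HasShift T ℤ] [∀ n : ℤ, (shiftFunctor T n).Additive] [Pretriangulated T]
    [HasBinaryBiproducts C] [HasBinaryBiproducts T]
    (Φ : C ⥤ T) [Φ.CommShift ℤ] [Φ.IsTriangulated] {E P Q R : C}
    (h : ∃ (a : E ⟶ P ⊞ Q) (b : P ⊞ Q ⟶ R) (c : R ⟶ E⟦(1 : ℤ)⟧),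
      Triangle.mk a b c ∈ distTriang C)
    {E' P' Q' R' : T} (e : Φ.obj E ≅ E') (p : Φ.obj P ≅ P') (q : Φ.obj Q ≅ Q')
    (r : Φ.obj R ≅ R') :
    ∃ (a : E' ⟶ P' ⊞ Q') (b : P' ⊞ Q' ⟶ R') (c : R' ⟶ E'⟦(1 : ℤ)⟧),
      Triangle.mk a b c ∈ distTriang T := by
  obtain ⟨a, b, c, hT⟩ := h
  have hT' := Φ.map_distinguished _ hT
  have : PreservesBinaryBiproducts Φ := preservesBinaryBiproducts_of_preservesBiproducts _
  exact ⟨_, _, _, isom_dist _ hT' e (Φ.mapBiprod _ _ ≪≫ biprod.mapIso p q) r⟩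

end K312.MV
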