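import Groth.Agent.PerfA.TFMV
import Groth.Agent.Dcoh.MapDer
import Groth.Prelude.Def_CxOX

/-!
# The Mayer–Vietoris triangle for extensions by zero, and the comparison of the two models of `j_!`
-/

set_option autoImplicit false
universe v₁ u u₁

open CategoryTheory CategoryTheory.Limits AlgebraicGeometry Opposite Pretriangulated
attribute [local instance] HasDerivedCategory.standard

namespace K312.MVZero

open Groth.Agent.PerfA.MVAbs Groth.Agent.PerfA.TFMV Groth.Agent.PerfC.ExtZero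
  Groth.Agent.Dcoh.MapDer

variable {X : Scheme.{u}}

/-- The two models of `j_!` agree. -/
noncomputable def extZeroIso {U : Scheme.{u}} (j : U ⟶ X) [IsOpenImmersion j] :
    jShriek j ≅ CxOX.extZero j :=
  (adj j).leftAdjointUniq (CxOX.extZeroAdj j)

/-- `j_!` is exact. -/
theorem preservesFiniteLimits_extZero {U : Scheme.{u}} (j : U ⟶ X) [IsOpenImmersion j] :
    PreservesFiniteLimits (CxOX.extZero j) :=
  preservesFiniteLimits_of_natIso (extZeroIso j)

/-- `TF U ≅ j_! j^*`. -/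
noncomputable def tfExtZero (W : X.Opens) :
    Scheme.Modules.restrictFunctor W.ι ⋙ CxOX.extZero W.ι ≅ TF W :=
  Functor.isoWhiskerLeft _ (extZeroIso W.ι).symm ≪≫ (tfOpensIso W).symm

lemma isIso_inc_top (F : X.Modules) : IsIso (inc ⊤ F) := by
  rw [Scheme.Modules.Hom.isIso_iff_isIso_app]
  intro V
  rw [ConcreteCategory.isIso_iff_bijective]
  exact inc_app_bijective_of_le ⊤ F le_top

/-- `TF ⊤` is the identity. -/
noncomputable def tfTop : TF (⊤ : X.Opens) ≅ 𝟭 X.Modules :=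
  NatIso.ofComponents (fun N => @asIso _ _ _ _ (inc ⊤ N) (isIso_inc_top N))
    (fun φ => TF_map_inc ⊤ φ)

/-- Mayer–Vietoris for extensions by zero. -/
theorem exists_mv {U V : X.Opens} (hUV : U ⊔ V = ⊤)
    [PreservesFiniteLimits (CxOX.extZero U.ι)] [PreservesFiniteLimits (CxOX.extZero V.ι)]
    [PreservesFiniteLimits (CxOX.extZero (U ⊓ V).ι)] (E : DCoh.D X) :
    ∃ (a : (CxOX.extZeroD (U ⊓ V).ι).obj ((DCoh.restrictD (U ⊓ V).ι).obj E) ⟶
        ((CxOX.extZeroD U.ι).obj ((DCoh.restrictD U.ι).obj E) ⊞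
          (CxOX.extZeroD V.ι).obj ((DCoh.restrictD V.ι).obj E)))
      (b : ((CxOX.extZeroD U.ι).obj ((DCoh.restrictD U.ι).obj E) ⊞
          (CxOX.extZeroD V.ι).obj ((DCoh.restrictD V.ι).obj E)) ⟶ E)
      (c : E ⟶ ((CxOX.extZeroD (U ⊓ V).ι).obj ((DCoh.restrictD (U ⊓ V).ι).obj E))⟦(1 : ℤ)⟧),
      Triangle.mk a b c ∈ distTriang (DCoh.D X) := by
  obtain ⟨a, b, c, hT⟩ := Groth.Agent.PerfA.MVAbs.exists_triangle
    (natLE (inf_le_left : U ⊓ V ≤ U)) (natLE (inf_le_right : U ⊓ V ≤ V)) (natLE le_sup_left)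
    (natLE le_sup_right) (fun N => (mapLE_comp (inf_le_left : U ⊓ V ≤ U) (le_sup_left : U ≤ U ⊔ V) N).trans
      (mapLE_comp (inf_le_right : U ⊓ V ≤ V) (le_sup_right : V ≤ U ⊔ V) N).symm)
    (shortExact_mv U V) E
  let e : ∀ (W : X.Opens) [PreservesFiniteLimits (CxOX.extZero W.ι)],
      (TF W).mapDerivedCategory.obj E ≅ (CxOX.extZeroD W.ι).obj ((DCoh.restrictD W.ι).obj E) :=
    fun W _ => ((mapDerCompIso (tfExtZero W)).app E).symm
  let e₃ : (TF (U ⊔ V)).mapDerivedCategory.obj E ≅ E :=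
    (mapDerIso (eqToIso (congrArg TF hUV) ≪≫ tfTop) ≪≫ mapDerId _).app E
  exact ⟨_, _, _, isom_dist _ hT (e (U ⊓ V)) (biprod.mapIso (e U) (e V)) e₃⟩

end K312.MVZero
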