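import Groth.Agent.Dcoh.DerPush2
import Groth.Agent.Dcoh.Restrict
import Groth.Agent.Dcoh.KFlatMod
import Groth.Agent.Dcoh.FreeSec

/-!
# `RΓ(X, -)` is computed by weakly K-injective complexes; `RΓ(Y, Rf_* -) ≅ RΓ(X, -)`
-/

set_option autoImplicit false

universe u

open CategoryTheory CategoryTheory.Limits AlgebraicGeometry Pretriangulated

attribute [local instance] HasDerivedCategory.standard

namespace K312.RGam

open Groth.Agent.Dcoh.DerAbs Groth.Agent.Dcoh.DerHo Groth.Agent.Dcoh.DerAdj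
  Groth.Agent.Dcoh.DerComp Groth.Agent.Dcoh.DerSch Groth.Agent.Dcoh.DerPull
  Groth.Agent.Dcoh.WKInj

variable (X : Scheme.{u})

/-- The unit of `RΓ`. -/
noncomputable def rgUnit [DCoh.HasRΓ X] : DCoh.gammaKh X ⟶ DerivedCategory.Qh ⋙ DCoh.RΓ X :=
  (DCoh.gammaKh X).totalRightDerivedUnit DerivedCategory.Qh (qis X.Modules)

instance [DCoh.HasRΓ X] : (DCoh.RΓ X).IsRightDerivedFunctor (rgUnit X) (qis X.Modules) := by
  dsimp [rgUnit]
  infer_instance

/-- `RΓ` exists. -/
theorem hasRΓ : DCoh.HasRΓ X := hasRightDerivedFunctor (hasKInj X) _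

variable {X}

lemma isFlat_structureModule : FlatMod.IsFlat (Coh.structureModule X) := fun x =>
  Module.Flat.of_linearEquiv (Groth.Agent.Dcoh.FreeSec.stalkUnit x).symm

lemma exactAt_gamma (J : CochainComplex X.Modules ℤ)
    (hJ : wkInj X ((HomotopyCategory.quotient _ _).obj J)) (hJ' : J.Acyclic) (n : ℤ) :
    (((DCoh.gammaAb X).mapHomologicalComplex (ComplexShape.up ℤ)).obj J).ExactAt n := by
  rw [HomologicalComplex.exactAt_iff' _ (n - 1) n (n + 1) (by simp) (by simp)]
  rw [ShortComplex.ab_exact_iff]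
  intro s hs
  change Γ(J.X n, ⊤) at s
  change (J.d n (n + 1)).app ⊤ s = 0 at hs
  let φ : Coh.structureModule X ⟶ J.X n := Groth.Agent.Dcoh.Restrict.unitHom s
  have hφ : φ ≫ J.d n (n + 1) = 0 := by
    rw [Groth.Agent.Dcoh.Restrict.unitHom_comp, hs]
    apply Groth.Agent.Dcoh.Restrict.unit_hom_ext
    rw [Groth.Agent.Dcoh.Restrict.unitHom_app_one]
    rfl
  let ψ : (HomologicalComplex.single X.Modules (ComplexShape.up ℤ) n).obj (Coh.structureModule X) ⟶ J :=
    HomologicalComplex.mkHomFromSingle φ (fun k hk => by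
      obtain rfl : n + 1 = k := hk
      exact hφ)
  have hflat : kFlatHo X ((HomotopyCategory.quotient _ _).obj
      ((HomologicalComplex.single X.Modules (ComplexShape.up ℤ) n).obj (Coh.structureModule X))) :=
    kFlatHo_quotient_obj _ (Groth.Agent.Dcoh.KFlatMod.isKFlat_single _ isFlat_structureModule n)
  have h0 : (HomotopyCategory.quotient _ _).map ψ = 0 := by
    refine (kFlatCls X).eq_zero hJ ?_ hflat _
    rw [HomotopyCategory.quotient_obj_mem_subcategoryAcyclic_iff_acyclic]
    exact hJ'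
  have h1 : (HomotopyCategory.quotient X.Modules (ComplexShape.up ℤ)).map ψ =
      (HomotopyCategory.quotient X.Modules (ComplexShape.up ℤ)).map 0 := by
    rw [h0, Functor.map_zero]
  let H := HomotopyCategory.homotopyOfEq _ _ h1
  have h2 := H.comm n
  rw [dNext_eq H.hom (show (ComplexShape.up ℤ).Rel n (n + 1) by simp),
    prevD_eq H.hom (show (ComplexShape.up ℤ).Rel (n - 1) n by simp)] at h2
  rw [HomologicalComplex.single_obj_d, zero_comp, zero_add, HomologicalComplex.zero_f, add_zero] at h2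
  rw [HomologicalComplex.mkHomFromSingle_f] at h2
  have h3 : φ = ((HomologicalComplex.singleObjXSelf (ComplexShape.up ℤ) n (Coh.structureModule X)).inv ≫
      H.hom n (n - 1)) ≫ J.d (n - 1) n := by
    rw [Category.assoc, ← h2, Iso.inv_hom_id_assoc]
  refine ⟨((HomologicalComplex.singleObjXSelf (ComplexShape.up ℤ) n (Coh.structureModule X)).inv ≫
      H.hom n (n - 1)).app ⊤ (Groth.Agent.Dcoh.Restrict.one ⊤), ?_⟩
  change (J.d (n - 1) n).app ⊤ _ = s
  rw [← Groth.Agent.Dcoh.Restrict.unitHom_app_one s]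
  exact (congrArg (fun (f : Coh.structureModule X ⟶ J.X n) => f.app ⊤ (Groth.Agent.Dcoh.Restrict.one ⊤)) h3).symm

end K312.RGam
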