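import Groth.Agent.DCoh.K312.RGam

/-!
# `RΓ(Y, Rf_* -) ≅ RΓ(X, -)`, `RΓ` is triangulated
-/

set_option autoImplicit false

universe w₁ w₂ v₁ v₂ u u₁ u₂

open CategoryTheory CategoryTheory.Limits AlgebraicGeometry Pretriangulated

attribute [local instance] HasDerivedCategory.standard

namespace K312.RGam

open Groth.Agent.Dcoh.DerAbs Groth.Agent.Dcoh.DerHo Groth.Agent.Dcoh.DerAdj
  Groth.Agent.Dcoh.DerComp Groth.Agent.Dcoh.DerSch Groth.Agent.Dcoh.DerPull
  Groth.Agent.Dcoh.WKInj

/-- A right derived functor of `G` is computed by weakly K-injective complexes if `G` preserves acyclicity of them. -/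
lemma rightDataAc {B : Type u₁} [Category.{v₁} B] [Abelian B]
    {A : Type u₂} [Category.{v₂} A] [Abelian A] [HasDerivedCategory.{w₂} A]
    {G : B ⥤ A} [G.Additive]
    {P' : ObjectProperty (HomotopyCategory B (ComplexShape.up ℤ))}
    (hB : HasKInj B) (hP' : Cls P')
    (hG : ∀ J, wInj P' J → HomotopyCategory.subcategoryAcyclic B J →
      HomotopyCategory.subcategoryAcyclic A ((G.mapHomotopyCategory (ComplexShape.up ℤ)).obj J)) :
    RightData (𝟭 _) (qis B) (mapQh G) (wInj P') where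
  full := inferInstance
  essSurj := inferInstance
  frac := (rightData hB (mapQh G)).frac
  respectsIso := inferInstance
  map_eq f g hfg := by
    obtain rfl : f = g := hfg
    rfl
  exists_res X := by
    obtain ⟨I, f, hI, hf⟩ := (rightData hB (mapQh G)).exists_res X
    exact ⟨I, f, kInj_le _ _ hI, hf⟩
  isIso_map {X Y} w hX hY hw := by
    obtain ⟨C, g, k, hT⟩ := Pretriangulated.distinguished_cocone_triangle w
    have hC : HomotopyCategory.subcategoryAcyclic B C := (qis_iff_of_distTriang hT).1 hw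
    have := hP'.wInj_isTriangulated
    have hC' : wInj P' C := (wInj P').ext_of_isTriangulatedClosed₃ _ hT hX hY
    have hC2 := hG C hC' hC
    have hT2 := (G.mapHomotopyCategory (ComplexShape.up ℤ)).map_distinguished _ hT
    have hw2 : qis A ((G.mapHomotopyCategory (ComplexShape.up ℤ)).map w) :=
      (qis_iff_of_distTriang hT2).2 hC2
    exact Localization.inverts DerivedCategory.Qh (qis A) _ hw2

variable {X Y : Scheme.{u}}

lemma acyclic_gamma (J : HomotopyCategory X.Modules (ComplexShape.up ℤ)) (hJ : wkInj X J)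
    (hJ' : HomotopyCategory.subcategoryAcyclic X.Modules J) :
    HomotopyCategory.subcategoryAcyclic AddCommGrpCat.{u}
      (((DCoh.gammaAb X).mapHomotopyCategory (ComplexShape.up ℤ)).obj J) := by
  change HomotopyCategory.subcategoryAcyclic AddCommGrpCat.{u}
    ((HomotopyCategory.quotient _ _).obj
      (((DCoh.gammaAb X).mapHomologicalComplex (ComplexShape.up ℤ)).obj J.as))
  rw [HomotopyCategory.quotient_obj_mem_subcategoryAcyclic_iff_acyclic]
  change HomotopyCategory.subcategoryAcyclic X.Modules ((HomotopyCategory.quotient _ _).obj J.as) at hJ'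
  rw [HomotopyCategory.quotient_obj_mem_subcategoryAcyclic_iff_acyclic] at hJ'
  exact fun n => exactAt_gamma J.as hJ hJ' n

lemma gammaData : RightData (𝟭 _) (qis X.Modules) (DCoh.gammaKh X) (wkInj X) :=
  rightDataAc (hasKInj X) (kFlatCls X) acyclic_gamma

/-- `RΓ` is computed by weakly K-injective complexes. -/
lemma isIso_rgUnit_app_of_wkInj [DCoh.HasRΓ X]
    (J : HomotopyCategory X.Modules (ComplexShape.up ℤ)) (hJ : wkInj X J) :
    IsIso ((rgUnit X).app J) :=
  gammaData.isIso_app (W₀ := qis X.Modules) (DerivedCategory.Qh.leftUnitor)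
    (fun _ hw ↦ hw) (DCoh.RΓ X) (rgUnit X) J hJ

/-- `Γ(Y, f_* -) = Γ(X, -)`. -/
noncomputable def pushGamma (f : X ⟶ Y) : Scheme.Modules.pushforward f ⋙ DCoh.gammaAb Y ≅ DCoh.gammaAb X :=
  Iso.refl _

/-- `RΓ(Y, Rf_* -) ≅ RΓ(X, -)`. -/
theorem nonempty_rpushRΓ (f : X ⟶ Y) [DCoh.HasRpush f] [DCoh.HasRΓ X] [DCoh.HasRΓ Y] :
    Nonempty (DCoh.Rpush f ⋙ DCoh.RΓ Y ≅ DCoh.RΓ X) := by
  obtain ⟨i, -⟩ := nonempty_compIso_right_of_isIso (pushGamma f) (hasKInj X)
    (DCoh.Rpush f) (rpushUnit f) (DCoh.RΓ Y) (rgUnit Y)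
    (fun I hI ↦ isIso_rgUnit_app_of_wkInj _ (wkInj_pushforward f _
      (kInj_le _ _ (kInj_quotient_obj I hI))))
    (DCoh.RΓ X) (rgUnit X)
  exact ⟨i⟩

/-- `RΓ` commutes with shifts. -/
@[instance_reducible]
noncomputable def rgCommShift [DCoh.HasRΓ X] : (DCoh.RΓ X).CommShift ℤ :=
  Groth.Agent.Dcoh.DerHo.commShift (hasKInj X) (DCoh.RΓ X) (rgUnit X)

/-- `RΓ` is a triangulated functor. -/
lemma rg_isTriangulated [DCoh.HasRΓ X] :
    letI := rgCommShift (X := X)
    (DCoh.RΓ X).IsTriangulated :=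
  Groth.Agent.Dcoh.DerHo.isTriangulated (hasKInj X) (DCoh.RΓ X) (rgUnit X)

end K312.RGam
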