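import Groth.Agent.Dcoh.ProjShriekD
import Groth.Agent.Dcoh.ModTens

/-!
# Internal hom commutes with restriction to opens
-/

set_option autoImplicit false
universe u
open CategoryTheory CategoryTheory.Limits AlgebraicGeometry MonoidalCategory
attribute [local instance] HasDerivedCategory.standard

open scoped Groth.Agent.Dcoh.MonCat Groth.Agent.Dcoh.ModD

namespace K312.ResHom

open Groth.Agent.Dcoh.ProjShriekD Groth.Agent.Dcoh.ModTens Groth.Agent.PerfA.Restrict
  Groth.Agent.PerfC.ExtZeroD

variable {X : Scheme.{u}} {U : Scheme.{u}} (j : U ⟶ X) [IsOpenImmersion j]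

/-- `RHom(K, -)|_U ≅ RHom(K|_U, (-)|_U)`. -/
theorem nonempty_restrict_RSheafHom (K : CochainComplex X.Modules ℤ) (K' : CochainComplex U.Modules ℤ)
    [DCoh.HasLTensorCx K] [DCoh.HasRSheafHom K] [DCoh.HasLTensorCx K'] [DCoh.HasRSheafHom K']
    (e : DerivedCategory.Q.obj K' ≅ (restrictD j).obj (DerivedCategory.Q.obj K)) :
    Nonempty (DCoh.RSheafHom K ⋙ restrictD j ≅ restrictD j ⋙ DCoh.RSheafHom K') := by
  let _ := restrictDMonoidal j
  have := isIso_proj j (DerivedCategory.Q.obj K)
  let i : tensorRight ((restrictD j).obj (DerivedCategory.Q.obj K)) ⋙ shriekD j ≅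
      shriekD j ⋙ tensorRight (DerivedCategory.Q.obj K) :=
    asIso (Groth.Agent.Dcoh.DualLoc.proj (restrictD j) (adjunction j) (DerivedCategory.Q.obj K))
  let i' : tensorRight (DerivedCategory.Q.obj K') ≅
      tensorRight ((restrictD j).obj (DerivedCategory.Q.obj K)) :=
    (tensoringRight (DCoh.D U)).mapIso e
  exact ⟨Adjunction.rightAdjointUniq ((adjunction j).comp (adjQ K))
    (((adjQ K').comp (adjunction j)).ofNatIsoLeft (Functor.isoWhiskerRight i' _ ≪≫ i))⟩

end K312.ResHom
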