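import Groth.Agent.PerfB.SecGamma
import Groth.Agent.DCoh.K312.RGam2
import Groth.Agent.Dcoh.LocalD
import Groth.Agent.Dcoh.StalkMod
import Groth.Agent.PerfA.ExactD

/-!
# Affine sections detect isomorphisms in `D(O_X)`
-/

set_option autoImplicit false

universe u

open CategoryTheory CategoryTheory.Limits AlgebraicGeometry Opposite TopologicalSpace Pretriangulated
open Groth.Agent Groth.Agent.PerfA.ExtZero Groth.Agent.PerfA.Hyp0 Groth.Agent.PerfA.Hyp1
open Groth.Agent.Dcoh.DerSch Groth.Agent.PerfB.SecGamma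

attribute [local instance] HasDerivedCategory.standard

namespace K312.RgDet

variable {X : Scheme.{u}}

lemma exactAt_of_isZero_Q {A : Type*} [Category* A] [Abelian A] [HasDerivedCategory A]
    {E : CochainComplex A ℤ} (h : IsZero (DerivedCategory.Q.obj E)) (n : ℤ) :
    E.ExactAt n := by
  rw [HomologicalComplex.exactAt_iff_isZero_homology]
  exact ((DerivedCategory.homologyFunctor A n).map_isZero h).of_iso
    ((DerivedCategory.homologyFunctorFactors A n).symm.app E)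

/-- A K-injective representative. -/
lemma exists_kInj (K : DCoh.D X) : ∃ I : CochainComplex X.Modules ℤ, I.IsKInjective ∧
    Nonempty (K ≅ DerivedCategory.Q.obj I) := by
  obtain ⟨I, f, hI, hf⟩ := hasKInj X (DerivedCategory.Q.objPreimage K)
  have hfQ : IsIso (DerivedCategory.Q.map f) := by
    rw [DerivedCategory.isIso_Q_map_iff_quasiIso]
    exact hf
  exact ⟨I, hI, ⟨(DerivedCategory.Q.objObjPreimageIso K).symm ≪≫ asIso (DerivedCategory.Q.map f)⟩⟩

/-- If `RΓ(V, K|_V) = 0` there is no hypercohomology over `V`. -/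
lemma hom_eq_zero_of_isZero (V : X.Opens) [DCoh.HasRΓ (V : Scheme.{u})] (K : DCoh.D X)
    (h : IsZero ((DCoh.RΓ (V : Scheme.{u})).obj ((DCoh.restrictD V.ι).obj K))) (m : ℤ)
    (φ : P m (V.ι ''ᵁ ⊤) ⟶ K) : φ = 0 := by
  obtain ⟨I, hI, ⟨e⟩⟩ := exists_kInj K
  let I' : CochainComplex (V : Scheme.{u}).Modules ℤ :=
    ((Scheme.Modules.restrictFunctor V.ι).mapHomologicalComplex (ComplexShape.up ℤ)).obj I
  have hI' : I'.IsKInjective := isKInjective_restrict V.ι I hI
  obtain ⟨e'⟩ := nonempty_RΓIso (V : Scheme.{u}) I' hI'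
  have hz : IsZero (DerivedCategory.Q.obj (gammaCx (V : Scheme.{u}) I')) :=
    h.of_iso (e'.symm ≪≫ (DCoh.RΓ (V : Scheme.{u})).mapIso
      ((Dcoh.LocalD.QRestrict V.ι I).symm ≪≫ (DCoh.restrictD V.ι).mapIso e.symm))
  have key : ∀ ψ : P m (V.ι ''ᵁ ⊤) ⟶ DerivedCategory.Q.obj I, ψ = 0 := by
    intro ψ
    obtain ⟨z, hz', rfl⟩ := exists_cocycle_of_isKInjective ψ
    obtain ⟨a, rfl⟩ := desc_surjective z
    rw [desc_comp] at hz'
    have ha : (I.d m (m + 1)).app (V.ι ''ᵁ ⊤) a = 0 := desc_injective (hz'.trans desc_zero.symm)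
    obtain ⟨b, hb⟩ : ∃ b : Γ(I.X (m - 1), V.ι ''ᵁ ⊤), (I.d (m - 1) m).app (V.ι ''ᵁ ⊤) b = a :=
      exists_section_of_exactAt I' (m - 1) m (m + 1) (by ring) rfl (exactAt_of_isZero_Q hz m) a ha
    refine ofCocycle_eq_zero (n := m - 1) (by ring) _ _ (desc (M := I.X (m - 1)) b) ?_
    rw [desc_comp, hb]
  have := key (φ ≫ e.hom)
  rwa [← cancel_mono e.hom, zero_comp]

/-- If `RΓ(V, K|_V) = 0` for all affine opens `V` then `K = 0`. -/
theorem isZero_of_affine [∀ V : X.Opens, DCoh.HasRΓ (V : Scheme.{u})] (K : DCoh.D X)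
    (h : ∀ V : X.Opens, IsAffineOpen V →
      IsZero ((DCoh.RΓ (V : Scheme.{u})).obj ((DCoh.restrictD V.ι).obj K))) : IsZero K := by
  rw [PerfA.ExactD.isZero_iff]
  intro m
  refine Dcoh.StalkMod.isZero_of_subsingleton _ fun x => ?_
  refine ⟨fun a b => ?_⟩
  suffices H : ∀ a : (DCoh.HD K m).presheaf.stalk x, a = 0 by rw [H a, H b]
  intro a
  obtain ⟨U, hxU, s, rfl⟩ := TopCat.Presheaf.exists_germ_eq (DCoh.HD K m).presheaf a
  obtain ⟨V, hVU, φ, hxV, hφ⟩ := exists_local_toHD_eq s x hxU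
  obtain ⟨W, hW, hxW, hWV⟩ : ∃ W : X.Opens, IsAffineOpen W ∧ x ∈ W ∧ W ≤ V := by
    obtain ⟨_, ⟨W, hW, rfl⟩, hxW, hWV⟩ := X.isBasis_affineOpens.exists_subset_of_mem_open hxV V.2
    exact ⟨W, hW, hxW, hWV⟩
  have hWV' : W.ι ''ᵁ ⊤ ≤ V := by
    rw [Scheme.Opens.ι_image_top]
    exact hWV
  have h0 : res hWV' φ = 0 := hom_eq_zero_of_isZero W K (h W hW) m _
  have h1 : (DCoh.HD K m).presheaf.map (homOfLE (hWV'.trans hVU)).op s = 0 := by
    have h2 := toHD_res hWV' φ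
    rw [h0, toHD_zero, hφ] at h2
    rw [h2]
    rw [← CategoryTheory.comp_apply, ← Functor.map_comp]
    rfl
  have hx' : x ∈ W.ι ''ᵁ ⊤ := by
    rw [Scheme.Opens.ι_image_top]
    exact hxW
  have h3 := TopCat.Presheaf.germ_res_apply (DCoh.HD K m).presheaf (homOfLE (hWV'.trans hVU)) x hx' s
  rw [← h3, h1, map_zero]

/-- A morphism of `D(O_X)` inducing isomorphisms on `RΓ(V, -)` for all affine opens `V` is an
isomorphism. -/
theorem isIso_of_affine [∀ V : X.Opens, DCoh.HasRΓ (V : Scheme.{u})] {K L : DCoh.D X} (φ : K ⟶ L)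
    (h : ∀ V : X.Opens, IsAffineOpen V →
      IsIso ((DCoh.RΓ (V : Scheme.{u})).map ((DCoh.restrictD V.ι).map φ))) : IsIso φ := by
  obtain ⟨C, g, δ, hT⟩ := distinguished_cocone_triangle φ
  refine (Triangle.isZero₃_iff_isIso₁ _ hT).1 (isZero_of_affine C fun V hV => ?_)
  letI := K312.RGam.rgCommShift (X := (V : Scheme.{u}))
  haveI := K312.RGam.rg_isTriangulated (X := (V : Scheme.{u}))
  have hT' := (DCoh.RΓ (V : Scheme.{u})).map_distinguished _
    ((DCoh.restrictD V.ι).map_distinguished _ hT)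
  exact Triangle.isZero₃_of_isIso₁ _ hT' (h V hV)

end K312.RgDet
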