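import Groth.Agent.CohtopA.KInjRes
import Groth.Agent.PerfA.Hyp0
import Mathlib.Algebra.Homology.HomotopyCategory.HomComplexSingle

/-!
# Functorial cellular resolutions

`A` is a Grothendieck abelian category with a separating family `G`.  Every cochain complex is the
target of a functorial quasi-isomorphism from a complex built from the cells `S ⟶ Cone (𝟙 S)`, with
`S` a shift of some `G i`.
-/

set_option autoImplicit false

universe w v u

open CategoryTheory CategoryTheory.Limits CategoryTheory.MorphismProperty HomologicalComplex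
  CochainComplex CochainComplex.HomComplex

open scoped ZeroObject

namespace K312.SmallRes

open Groth.Agent.CohtopA.TrivCof

variable {A : Type u} [Category.{v} A] [Abelian A]

/-- `G` in degree `n`. -/
noncomputable abbrev sph (G : A) (n : ℤ) : CochainComplex A ℤ := (single A (ComplexShape.up ℤ) n).obj G

/-- The cell attached along `G[-n]`. -/
noncomputable abbrev cel (G : A) (n : ℤ) : CochainComplex A ℤ := mappingCone (𝟙 (sph G n))

/-- The inclusion of the boundary of a cell. -/
noncomputable abbrev celι (G : A) (n : ℤ) : sph G n ⟶ cel G n := mappingCone.inr (𝟙 (sph G n))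

section lift

variable {G : A} {E F : CochainComplex A ℤ} (p : E ⟶ F) {n m : ℤ}

/-- The lifting property against a cell, in terms of elements. -/
lemma exists_lift [HasLiftingProperty (celι G n) p] (hm : m + 1 = n) (x : G ⟶ E.X n)
    (hx : x ≫ E.d n (n + 1) = 0) (y : G ⟶ F.X m) (hy : y ≫ F.d m n = x ≫ p.f n) :
    ∃ z : G ⟶ E.X m, z ≫ E.d m n = x ∧ z ≫ p.f m = y := by
  let a : sph G n ⟶ E := Groth.Agent.PerfA.Hyp0.cocycleHom x hx
  have hx' : (x ≫ p.f n) ≫ F.d n (n + 1) = 0 := by
    rw [Category.assoc, p.comm, reassoc_of% hx, zero_comp]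
  let b : sph G n ⟶ F := Groth.Agent.PerfA.Hyp0.cocycleHom (x ≫ p.f n) hx'
  let α : Cochain (sph G n) F (-1) := Cochain.fromSingleMk y (by lia)
  have hα : δ (-1) 0 α = Cochain.ofHom (𝟙 (sph G n) ≫ b) := by
    rw [Category.id_comp]
    refine (Cochain.δ_fromSingleMk y (by lia) 0 n (by lia)).trans ?_
    rw [hy]
    exact (Groth.Agent.PerfA.Hyp0.ofHom_cocycleHom (x ≫ p.f n) hx').symm
  let c : cel G n ⟶ F := mappingCone.desc (𝟙 (sph G n)) α b hα
  have sq : CommSq a (celι G n) p c := ⟨by
    rw [mappingCone.inr_desc]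
    exact Groth.Agent.PerfA.Hyp0.cocycleHom_comp x hx p⟩
  obtain ⟨⟨l, hl1, hl2⟩⟩ := (HasLiftingProperty.sq_hasLift sq)
  let s : G ⟶ (sph G n).X n := (singleObjXSelf (ComplexShape.up ℤ) n G).inv
  have hs : s ≫ (singleObjXSelf (ComplexShape.up ℤ) n G).hom = 𝟙 G := Iso.inv_hom_id _
  refine ⟨s ≫ (mappingCone.inl (𝟙 (sph G n))).v n m (by lia) ≫ l.f m, ?_, ?_⟩
  · rw [Category.assoc, Category.assoc, l.comm, ← Category.assoc ((mappingCone.inl _).v n m _),
      mappingCone.inl_v_d (𝟙 (sph G n)) n m (n + 1) (by lia) (by lia), single_obj_d, zero_comp,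
      sub_zero, id_f, Category.id_comp, ← comp_f, hl1]
    rw [Groth.Agent.PerfA.Hyp0.cocycleHom_f, reassoc_of% hs]
  · have h1 : α.v n m (by lia) = (singleObjXSelf (ComplexShape.up ℤ) n G).hom ≫ y :=
      Cochain.fromSingleMk_v y _
    rw [Category.assoc, Category.assoc, ← comp_f, hl2, mappingCone.inl_v_desc_f, h1,
      reassoc_of% hs]

end lift

section qis

variable {ι : Type w} (G : ι → A)

omit [Abelian A] in
/-- Epimorphisms are detected by a separating family. -/
lemma epi_of_lifts (hG : (ObjectProperty.ofObj G).IsSeparating) {X Y : A} (f : X ⟶ Y)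
    (h : ∀ (i : ι) (y : G i ⟶ Y), ∃ x : G i ⟶ X, x ≫ f = y) : Epi f := by
  refine ⟨fun a b hab => hG a b ?_⟩
  rintro _ ⟨i⟩ y
  obtain ⟨x, rfl⟩ := h i y
  rw [Category.assoc, Category.assoc, hab]

/-- Exactness is detected by a separating family. -/
lemma exactAt_of_lifts (hG : (ObjectProperty.ofObj G).IsSeparating) (K : CochainComplex A ℤ)
    (m n : ℤ) (hm : m + 1 = n) (h : ∀ (i : ι) (z : G i ⟶ K.X n), z ≫ K.d n (n + 1) = 0 →
      ∃ x : G i ⟶ K.X m, x ≫ K.d m n = z) : K.ExactAt n := by
  rw [K.exactAt_iff' m n (n + 1) (by simp [← hm]) (by simp), ShortComplex.exact_iff_epi_toCycles]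
  refine epi_of_lifts G hG _ fun i y => ?_
  have w : (K.sc' m n (n + 1)).iCycles ≫ K.d n (n + 1) = 0 := (K.sc' m n (n + 1)).iCycles_g
  obtain ⟨x, hx⟩ := h i (y ≫ (K.sc' m n (n + 1)).iCycles)
    ((Category.assoc _ _ _).trans ((congrArg (y ≫ ·) w).trans comp_zero))
  refine ⟨x, (cancel_mono (K.sc' m n (n + 1)).iCycles).1 ?_⟩
  exact (Category.assoc _ _ _).trans ((congrArg (x ≫ ·) (ShortComplex.toCycles_i _)).trans hx)

/-- A morphism with the right lifting property against all cells is a quasi-isomorphism. -/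
theorem quasiIso_of_lifting (hG : (ObjectProperty.ofObj G).IsSeparating)
    {E F : CochainComplex A ℤ} (p : E ⟶ F)
    (hp : ∀ (i : ι) (n : ℤ), HasLiftingProperty (celι (G i) n) p) : QuasiIso p := by
  have h1 : ∀ m, Epi (p.f m) := by
    intro m
    refine epi_of_lifts G hG _ fun i y => ?_
    have := hp i (m + 1)
    have := hp i (m + 1 + 1)
    obtain ⟨z, hz1, hz2⟩ := exists_lift (G := G i) p (n := m + 1 + 1) (m := m + 1) rfl 0 (by simp)
      (y ≫ F.d m (m + 1)) (by simp)
    obtain ⟨x, -, hx⟩ := exists_lift (G := G i) p (n := m + 1) (m := m) rfl z hz1 y hz2.symm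
    exact ⟨x, hx⟩
  have h2 : Epi p := HomologicalComplex.epi_of_epi_f p h1
  let S : ShortComplex (CochainComplex A ℤ) := ShortComplex.mk (kernel.ι p) p (kernel.condition p)
  have hS : S.ShortExact :=
    { exact := ShortComplex.exact_of_f_is_kernel _ (kernelIsKernel p)
      mono_f := inferInstanceAs (Mono (kernel.ι p))
      epi_g := h2 }
  refine quasiIso_g_of_acyclic hS fun n => ?_
  refine exactAt_of_lifts G hG _ (n - 1) n (by ring) fun i z hz => ?_
  have := hp i n
  have hw : ∀ k, S.f.f k ≫ p.f k = 0 := fun k => by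
    rw [← comp_f]
    exact congrArg (fun φ => φ.f k) S.zero
  have hcomm := S.f.comm n (n + 1)
  obtain ⟨x, hx1, hx2⟩ := exists_lift (G := G i) p (n := n) (m := n - 1) (by ring) (z ≫ S.f.f n) (by
      rw [Category.assoc, hcomm, reassoc_of% hz, zero_comp]) 0 (by
      rw [zero_comp, Category.assoc, hw, comp_zero])
  have hSn := (hS.map_of_exact (HomologicalComplex.eval A (ComplexShape.up ℤ) (n - 1)))
  have := hSn.mono_f
  let k : G i ⟶ S.X₁.X (n - 1) := hSn.exact.lift x hx2
  have h3 : k ≫ S.f.f (n - 1) = x := hSn.exact.lift_f x hx2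
  have hmono : Mono (S.f.f n) :=
    (hS.map_of_exact (HomologicalComplex.eval A (ComplexShape.up ℤ) n)).mono_f
  refine ⟨k, (cancel_mono (S.f.f n)).1 ?_⟩
  rw [Category.assoc, ← S.f.comm, ← Category.assoc, h3, hx1]

end qis

section small

variable [IsGrothendieckAbelian.{w} A] {ι : Type w} (G : ι → A)

omit [IsGrothendieckAbelian.{w} A] in
lemma mono_inr {K L : CochainComplex A ℤ} (φ : K ⟶ L) : Mono (mappingCone.inr φ) := by
  refine HomologicalComplex.mono_of_mono_f _ fun n => ?_
  have : Mono ((mappingCone.inr φ).f n ≫ (mappingCone.snd φ).v n n (add_zero n)) := by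
    rw [mappingCone.inr_f_snd_v]
    infer_instance
  exact mono_of_mono _ ((mappingCone.snd φ).v n n (add_zero n))

/-- The generating cells. -/
def cells : MorphismProperty (CochainComplex A ℤ) :=
  MorphismProperty.ofHoms (fun p : ι × ℤ => celι (G p.1) p.2)

omit [IsGrothendieckAbelian.{w} A] in
lemma cells_mk (i : ι) (n : ℤ) : cells G (celι (G i) n) :=
  MorphismProperty.ofHoms.mk (f := fun p : ι × ℤ => celι (G p.1) p.2) ⟨i, n⟩

omit [IsGrothendieckAbelian.{w} A] in
lemma cells_le : cells G ≤ monomorphisms _ := by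
  rintro _ _ _ ⟨⟨i, n⟩⟩
  exact mono_inr _

instance : MorphismProperty.IsSmall.{w} (cells G) := by
  dsimp [cells]
  infer_instance

instance : HasSmallObjectArgument.{w} (cells G) := by
  have hga : IsGrothendieckAbelian.{w} (CochainComplex A ℤ) := inferInstance
  obtain ⟨κ, hκ', hκ⟩ := HasCardinalLT.exists_regular_cardinal.{w}
    (Σ p : ι × ℤ, Subobject (sph (G p.1) p.2))
  have : Fact κ.IsRegular := ⟨hκ'⟩
  have : Nonempty κ.ord.ToType := by simpa using hκ'.ne_zero
  have := WellFoundedLT.toOrderBot κ.ord.ToType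
  exact ⟨κ, inferInstance, inferInstance,
    { preservesColimit {K L X Y} i hi f hf := by
        let hf' : (monomorphisms (CochainComplex A ℤ)).TransfiniteCompositionOfShape
          κ.ord.ToType f :=
          { toTransfiniteCompositionOfShape := hf.toTransfiniteCompositionOfShape
            map_mem j hj := by
              have := (hf.attachCells j hj).pushouts_coproducts
              simp only [ofHoms_homFamily] at this
              refine (?_ : _ ≤ monomorphisms (CochainComplex A ℤ)) _ this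
              simp only [pushouts_le_iff, coproducts_le_iff]
              exact cells_le G }
        have (j j' : κ.ord.ToType) (φ : j ⟶ j') : Mono (hf'.F.map φ) := hf'.mem_map φ
        apply IsGrothendieckAbelian.preservesColimit_coyoneda_obj_of_mono (Y := hf'.F) (κ := κ)
        obtain ⟨⟨i, n⟩⟩ := hi
        exact hκ.of_injective (fun S ↦ (⟨⟨i, n⟩, S⟩ : Σ p : ι × ℤ, Subobject (sph (G p.1) p.2)))
            (fun S₁ S₂ h ↦ by simpa using h) }⟩

/-- The arrow `0 ⟶ K`. -/
noncomputable def zeroArrow : CochainComplex A ℤ ⥤ Arrow (CochainComplex A ℤ) where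
  obj K := Arrow.mk (0 : (0 : CochainComplex A ℤ) ⟶ K)
  map f := Arrow.homMk (𝟙 _) f (by simp)

/-- **Functorial cellular resolutions.** -/
theorem exists_functor (hG : (ObjectProperty.ofObj G).IsSeparating) :
    ∃ (P : CochainComplex A ℤ ⥤ CochainComplex A ℤ) (ψ : P ⟶ 𝟭 _), ∀ K : CochainComplex A ℤ,
      (cells G).rlp.llp (0 : (0 : CochainComplex A ℤ) ⟶ P.obj K) ∧ QuasiIso (ψ.app K) := by
  let D := functorialFactorizationData (cells G).rlp.llp (cells G).rlp
  refine ⟨zeroArrow ⋙ D.Z,
    { app K := D.p.app (zeroArrow.obj K)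
      naturality K L f := D.p.naturality (zeroArrow.map f) }, fun K => ⟨?_, ?_⟩⟩
  · have h := D.hi (zeroArrow.obj K)
    have e : D.i.app (zeroArrow.obj K) = 0 := (isZero_zero _).eq_of_src _ _
    rw [e] at h
    exact h
  · exact quasiIso_of_lifting G hG _ fun i n => D.hp (zeroArrow.obj K) _ (cells_mk G i n)

/-- A left adjoint which sends cells to trivial cofibrations sends cellular complexes to acyclic
complexes. -/
theorem acyclic_of_llp {B : Type*} [Category* B] [Abelian B] [IsGrothendieckAbelian.{w} B]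
    (T : CochainComplex A ℤ ⥤ CochainComplex B ℤ) [T.IsLeftAdjoint] [T.PreservesZeroMorphisms]
    (hT : ∀ (i : ι) (n : ℤ), trivCof B (T.map (celι (G i) n))) (P : CochainComplex A ℤ)
    (hP : (cells G).rlp.llp (0 : (0 : CochainComplex A ℤ) ⟶ P)) : (T.obj P).Acyclic := by
  have h : trivCof B (T.map (0 : (0 : CochainComplex A ℤ) ⟶ P)) := by
    rw [← Groth.Agent.CohtopA.KInjRes.llp_rlp_trivCof.{w}]
    intro X Y p hp
    rw [(Adjunction.ofIsLeftAdjoint T).hasLiftingProperty_iff]
    apply hP
    rintro _ _ _ ⟨⟨i, n⟩⟩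
    rw [← (Adjunction.ofIsLeftAdjoint T).hasLiftingProperty_iff]
    exact hp _ (hT i n)
  have h1 : QuasiIso (T.map (0 : (0 : CochainComplex A ℤ) ⟶ P)) := h.2
  intro n
  rw [exactAt_iff_isZero_homology]
  have h2 : IsIso (homologyMap (T.map (0 : (0 : CochainComplex A ℤ) ⟶ P)) n) := inferInstance
  have h3 : IsZero (T.obj (0 : CochainComplex A ℤ)) := T.map_isZero (isZero_zero _)
  exact IsZero.of_iso ((homologyFunctor B (ComplexShape.up ℤ) n).map_isZero h3)
    (asIso (homologyMap (T.map (0 : (0 : CochainComplex A ℤ) ⟶ P)) n)).symm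

end small

end K312.SmallRes
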