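import Groth.Agent.Dcoh.DerSch
import Groth.Agent.PerfC.ExtZeroD
import Groth.Agent.PerfB.OpenAdj
import Groth.Agent.Dcoh.StrPerf
import Groth.Agent.DCoh.K312.MVZero

/-!
# Supports and `Rf_*`

* `supp_rpush_disjoint`: if `E` has no support over an open `V`, neither has `Rf_* E`;
* `isIso_unit`: `E ⟶ Rj_*(E|_U)` is an isomorphism if `E` is supported on a closed subset contained in `U`;
* `isPerfect_rpush`.
-/

set_option autoImplicit false
universe u
open CategoryTheory CategoryTheory.Limits AlgebraicGeometry Pretriangulated ZeroObject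
attribute [local instance] HasDerivedCategory.standard

namespace K312.SuppPush

open Groth.Agent.PerfA.Restrict Groth.Agent.PerfC.Supp Groth.Agent.PerfC.ExtZeroD
  Groth.Agent.PerfB.OpenAdj Groth.Agent.Dcoh.MapDer

variable {X Y : Scheme.{u}}

lemma isZero_of_supp_empty (K : DCoh.D X) (h : ∀ i, supp K i = ∅) : IsZero K := by
  have h1 : IsIso (0 : K ⟶ K) := by
    rw [DerivedCategory.isIso_iff]
    intro n
    rw [Functor.map_zero]
    have hz : IsZero (DCoh.HD K n) := (supp_eq_empty_iff K n).1 (h n)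
    exact ⟨0, hz.eq_of_src _ _, hz.eq_of_src _ _⟩
  exact ((isIsoZero_iff_source_target_isZero _ _).1 h1).1

lemma isZero_restrictD_of_disjoint {U : Scheme.{u}} (j : U ⟶ X) [IsOpenImmersion j] (K : DCoh.D X)
    (h : ∀ i, Disjoint (supp K i) (Set.range j)) : IsZero ((DCoh.restrictD j).obj K) := by
  refine isZero_of_supp_empty _ (fun i => ?_)
  refine (supp_restrictD j K i).trans ?_
  rw [Set.preimage_eq_empty_iff]
  exact h i

/-- If `E` has no support over the open `V`, neither has `Rf_* E`. -/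
theorem isZero_restrictD_rpush (f : X ⟶ Y) [DCoh.HasRpush f] (V : Y.Opens) (E : DCoh.D X)
    (h : ∀ i, Disjoint (supp E i) ((f ⁻¹ᵁ V : X.Opens) : Set X)) :
    IsZero ((DCoh.restrictD V.ι).obj ((DCoh.Rpush f).obj E)) := by
  have hR := Groth.Agent.Dcoh.DerSch.hasRpush (f ∣_ V)
  obtain ⟨i⟩ := Groth.Agent.Dcoh.DerSch.exists_rpushRestrictIso f (f ∣_ V) (f ⁻¹ᵁ V).ι V.ι
    (isPullback_morphismRestrict f V).flip
  letI := Groth.Agent.Dcoh.DerSch.rpushCommShift (f ∣_ V)
  have := Groth.Agent.Dcoh.DerSch.rpush_isTriangulated (f ∣_ V)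
  have h1 : IsZero ((DCoh.restrictD (f ⁻¹ᵁ V).ι).obj E) :=
    isZero_restrictD_of_disjoint (f ⁻¹ᵁ V).ι E (fun i => by
      rw [Scheme.Opens.range_ι]
      exact h i)
  exact ((DCoh.Rpush (f ∣_ V)).map_isZero h1).of_iso (i.app E)

/-- If `E` has no support over the open `V`, neither has `Rf_* E`. -/
theorem supp_rpush_disjoint (f : X ⟶ Y) [DCoh.HasRpush f] (V : Y.Opens) (E : DCoh.D X)
    (h : ∀ i, Disjoint (supp E i) ((f ⁻¹ᵁ V : X.Opens) : Set X)) (i : ℤ) :
    Disjoint (supp ((DCoh.Rpush f).obj E) i) (V : Set Y) := by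
  have h1 := supp_zero (isZero_restrictD_rpush f V E h) i
  have h2 := (supp_restrictD V.ι ((DCoh.Rpush f).obj E) i).symm.trans h1
  rw [Set.preimage_eq_empty_iff, Scheme.Opens.range_ι] at h2
  exact h2

/-- The support of `Rf_* E` is contained in any closed subset `T` with `supp E ⊆ f⁻¹ T`. -/
theorem supp_rpush_subset (f : X ⟶ Y) [DCoh.HasRpush f] (T : Set Y) (hT : IsClosed T) (E : DCoh.D X)
    (h : ∀ i, supp E i ⊆ f.base ⁻¹' T) (i : ℤ) :
    supp ((DCoh.Rpush f).obj E) i ⊆ T := by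
  have h1 := supp_rpush_disjoint f ⟨Tᶜ, hT.isOpen_compl⟩ E (fun i => by
    rw [Set.disjoint_left]
    intro x hx hx'
    exact hx' (h i hx)) i
  intro y hy
  by_contra hyT
  exact Set.disjoint_left.1 h1 hy hyT

/-- `E ⟶ Rj_*(E|_U)` is an isomorphism for `E` supported on a closed subset contained in `U`. -/
theorem isIso_unit (U : X.Opens) [DCoh.HasRpush U.ι] (T : Set X) (hT : IsClosed T)
    (hTU : T ⊆ (U : Set X)) (E : DCoh.D X) (hE : ∀ i, supp E i ⊆ T) :
    IsIso ((openAdj U.ι).unit.app E) := by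
  refine isIso_of_supp (j := U.ι) _ (fun i => ?_) (fun i => ?_) inferInstance
  · rw [Scheme.Opens.range_ι]
    exact (hE i).trans hTU
  · rw [Scheme.Opens.range_ι]
    refine (supp_rpush_subset U.ι T hT _ (fun i => ?_) i).trans hTU
    refine (supp_restrictD U.ι E i).subset.trans ?_
    exact Set.preimage_mono (hE i)

/-- `j_!` computed by the two models. -/
noncomputable def extZeroDIso (U : X.Opens) [PreservesFiniteLimits (CxOX.extZero U.ι)] :
    shriekD U.ι ≅ CxOX.extZeroD U.ι :=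
  mapDerIso (K312.MVZero.extZeroIso U.ι)

/-- `j_! F ≅ Rj_* F` for `F` with support closed in `X`. -/
theorem nonempty_extZero_iso (U : X.Opens) [DCoh.HasRpush U.ι]
    [PreservesFiniteLimits (CxOX.extZero U.ι)] (T : Set X) (hT : IsClosed T)
    (hTU : T ⊆ (U : Set X)) (F : DCoh.D (U : Scheme.{u}))
    (hF : ∀ i, (fun x : (U : Scheme.{u}) => U.ι.base x) '' supp F i ⊆ T) :
    Nonempty ((CxOX.extZeroD U.ι).obj F ≅ (DCoh.Rpush U.ι).obj F) := by
  have h1 := isIso_unit U T hT hTU ((shriekD U.ι).obj F) (fun i => by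
    rw [supp_shriekD]
    exact hF i)
  exact ⟨(extZeroDIso U).symm.app F ≪≫ asIso ((openAdj U.ι).unit.app ((shriekD U.ι).obj F)) ≪≫
    (DCoh.Rpush U.ι).mapIso (Groth.Agent.PerfC.ExtZeroD.unitIso U.ι F).symm⟩

/-- `Rj_* E` is perfect if `E` is perfect with support closed in `X`. -/
theorem isPerfect_rpush (U : X.Opens) [DCoh.HasRpush U.ι] (E : DCoh.D (U : Scheme.{u}))
    (hE : DCoh.IsPerfect E) (T : Set X) (hT : IsClosed T) (hTU : T ⊆ (U : Set X))
    (hsupp : ∀ i : ℤ, supp E i ⊆ U.ι.base ⁻¹' T) :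
    DCoh.IsPerfect ((DCoh.Rpush U.ι).obj E) := by
  apply Groth.Agent.Dcoh.LocalD.isPerfect_of_cover
  intro x
  by_cases hx : x ∈ U
  · refine ⟨(U : Scheme.{u}), U.ι, inferInstance, by rwa [Scheme.Opens.range_ι], ?_⟩
    exact Groth.Agent.Dcoh.LocalD.isPerfect_of_iso (asIso ((openAdj U.ι).counit.app E)).symm hE
  · let W : X.Opens := ⟨Tᶜ, hT.isOpen_compl⟩
    refine ⟨(W : Scheme.{u}), W.ι, inferInstance, ?_, ?_⟩
    · rw [Scheme.Opens.range_ι]
      exact fun h => hx (hTU h)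
    · have h0 : IsZero ((DCoh.restrictD W.ι).obj ((DCoh.Rpush U.ι).obj E)) := by
        refine isZero_restrictD_rpush U.ι W E (fun i => ?_)
        rw [Set.disjoint_left]
        intro y hy hy'
        exact hy' (hsupp i hy)
      have h1 : DCoh.IsPerfect (DerivedCategory.Q.obj (0 : CochainComplex (W : Scheme.{u}).Modules ℤ)) :=
        Groth.Agent.Dcoh.LocalD.isPerfect_Q Groth.Agent.Dcoh.StrPerf.isStrictlyPerfect_zero
      exact Groth.Agent.Dcoh.LocalD.isPerfect_of_iso
        ((DerivedCategory.Q.map_isZero (isZero_zero _)).iso h0) h1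

end K312.SuppPush
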